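import Cfsg.Agent.Lib.Fischer3Srg.Linked
import Cfsg.Agent.Lib.Fischer3Rel.Main

/-!
# What the perps of the members say about the group
-/

set_option autoImplicit false
set_option linter.unusedSectionVars false
set_option linter.style.haveILetI false

namespace Cfsg.Agent.Fischer3Srg

open Cfsg ClassK Fischer3 Fischer3Rel

universe u

variable {G : Type u} [Group G] [Finite G] {D : Set G}

/-- Two members with the same common perp with `a` differ by `a` at most. -/
def ThirdUnique (D : Set G) : Prop :=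
  ∀ a ∈ D, ∀ c ∈ D, ∀ t ∈ D, ¬ Commute a c → ¬ Commute a t →
    perp D a ∩ perp D c ⊆ perp D t → t = c ∨ t = a * c * a⁻¹

/-- A strongly regular class with centralisers generated by the perps. -/
structure Srg (D : Set G) (v k l m : ℕ) : Prop where
  card : D.ncard = v
  size : ∀ d ∈ D, (perp D d).ncard = k
  pair : ∀ d ∈ D, ∀ b ∈ perp D d, (perp D d ∩ perp D b).ncard = l
  mu : ∀ d ∈ D, ∀ c ∈ D, ¬ Commute d c → (perp D d ∩ perp D c).ncard = m
  tri : ∀ b ∈ D, ∀ x ∈ perp D b, ∀ y ∈ perp D b, ¬ Commute x y →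
    ∃ z, z ∈ perp D b ∩ perp D x ∩ perp D y
  u3 : ThirdUnique D
  cent : ∀ d ∈ D, Subgroup.centralizer {d} = H D d

/-- What is used of the perps of the members. -/
structure Below (D : Set G) (k k' l' m' : ℕ) : Prop where
  loc : Local D k k' l' m'
  quad : ∀ d ∈ D, ∀ b ∈ perp D d, ∀ x ∈ perp D d ∩ perp D b, ∀ y ∈ perp D d ∩ perp D b,
    ¬ Commute x y → ∃ z, z ∈ perp D d ∩ perp D b ∩ (perp D x ∩ perp D y)
  u3 : ∀ a ∈ D, ∀ c ∈ D, ¬ Commute a c → (∃ y, y ∈ perp D a ∩ perp D c) →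
    ∀ t ∈ D, ¬ Commute a t → perp D a ∩ perp D c ⊆ perp D t → t = c ∨ t = a * c * a⁻¹
  centre : ∀ d ∈ D, ∀ z ∈ H D d, (∀ x ∈ perp D d, Commute z x) → z = 1 ∨ z = d
  key : ∀ d ∈ D, ∀ b ∈ perp D d, ∀ x ∈ H D b, Commute x d → x ∈ H D d
  self : ∀ d ∈ D, d ∈ H D d

section lift

variable {w : G}

/-- The member of the image given by a member of the perp. -/
abbrev bar (D : Set G) (w : G) (y : G) (hy : y ∈ perp D w) :
    ↥(H D w) ⧸ Subgroup.center ↥(H D w) :=
  QuotientGroup.mk ⟨y, Subgroup.subset_closure hy⟩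

theorem bar_commute (hS : IsThreeTranspositionSet D) {y z : G} (hy : y ∈ perp D w)
    (hz : z ∈ perp D w) : Commute (bar D w y hy) (bar D w z hz) ↔ Commute y z := by
  refine ⟨fun h => ?_, fun h => ?_⟩
  · by_contra hn
    set π := QuotientGroup.mk' (Subgroup.center ↥(H D w))
    set a : ↥(H D w) := ⟨y, Subgroup.subset_closure hy⟩
    set b : ↥(H D w) := ⟨z, Subgroup.subset_closure hz⟩
    have haa : π a * π a = 1 := by
      rw [← map_mul, show a * a = 1 from Subtype.ext (tt_mul_self hS hy.1), map_one]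
    have hbb : π b * π b = 1 := by
      rw [← map_mul, show b * b = 1 from Subtype.ext (tt_mul_self hS hz.1), map_one]
    have h2 : π (a * b) ^ 2 = 1 := by
      rw [map_mul, (show Commute (π a) (π b) from h).mul_pow, sq, sq, haa, hbb, one_mul]
    have h3 : π (a * b) ^ 3 = 1 := by
      rw [← map_pow, show (a * b) ^ 3 = 1 from Subtype.ext (by
        simpa [a, b] using tt_noncommute_cube hS hy.1 hz.1 hn), map_one]
    have h1 : π (a * b) = 1 := by simpa using pow_gcd_eq_one.2 ⟨h2, h3⟩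
    have hc : Commute (y * z) y := commute_of_mem_center ((QuotientGroup.eq_one_iff _).1 h1) hy
    have e := hc.eq
    rw [mul_assoc] at e
    exact hn (mul_left_cancel e).symm
  · exact (show Commute (⟨y, Subgroup.subset_closure hy⟩ : ↥(H D w)) ⟨z, Subgroup.subset_closure hz⟩
      from Subtype.ext h).map (QuotientGroup.mk' (Subgroup.center ↥(H D w)))

theorem bar_inj (hC : IsThreeTranspositionClass D) (h2 : pCore 2 G = ⊥) (hw : w ∈ D) {y z : G}
    (hy : y ∈ perp D w) (hz : z ∈ perp D w) (h : bar D w y hy = bar D w z hz) : y = z := by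
  by_contra hne
  obtain ⟨x, hx, hn⟩ := perp_noncentral hC h2 hw hy
  have hz' := QuotientGroup.eq.1 h
  have e : ((⟨y, Subgroup.subset_closure hy⟩ : ↥(H D w))⁻¹ * ⟨z, Subgroup.subset_closure hz⟩ :
      ↥(H D w)).1 = y * z := by simp [tt_inv hC.1 hy.1]
  have := commute_of_mem_center hz' hx
  rw [e] at this
  exact hn (commute_of_pair hC.1 hy.1 hz.1 hx.1 hne this.symm).symm

theorem bar_perp (hC : IsThreeTranspositionClass D) (h2 : pCore 2 G = ⊥) (hw : w ∈ D) {y z : G}
    (hy : y ∈ perp D w) (hz : z ∈ perp D w) :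
    bar D w z hz ∈ perp (img D w) (bar D w y hy) ↔ z ∈ perp D y := by
  constructor
  · rintro ⟨-, hne, hc⟩
    exact ⟨hz.1, fun e => hne (by subst e; rfl), (bar_commute hC.1 hy hz).1 hc⟩
  · intro h
    exact ⟨⟨⟨z, Subgroup.subset_closure hz⟩, hz, rfl⟩, fun e => h.2.1 (bar_inj hC h2 hw hz hy e),
      (bar_commute hC.1 hy hz).2 h.2.2⟩

/-- Counting in the image is counting in the perp. -/
theorem ncard_bar (hC : IsThreeTranspositionClass D) (h2 : pCore 2 G = ⊥) (hw : w ∈ D) (s : Set G)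
    (T : Set (↥(H D w) ⧸ Subgroup.center ↥(H D w))) (hs : s ⊆ perp D w) (hT : T ⊆ img D w)
    (h : ∀ z, ∀ hz : z ∈ perp D w, bar D w z hz ∈ T ↔ z ∈ s) : s.ncard = T.ncard :=
  Set.ncard_congr (fun z hz => bar D w z (hs hz)) (fun z hz => (h z (hs hz)).2 hz)
    (fun y z hy hz e => bar_inj hC h2 hw (hs hy) (hs hz) e) fun x hx => by
      obtain ⟨⟨z, hz'⟩, hz, rfl⟩ := hT hx
      exact ⟨z, (h z hz).1 hx, rfl⟩

end lift

/-- The information from strongly regular perps. -/
theorem below_of_srg (hC : IsThreeTranspositionClass D) (h2 : pCore 2 G = ⊥)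
    (hZ : Subgroup.center G = ⊥) (hprim : IsPrimitiveUnderConj D)
    (hne : ∀ d ∈ D, ∃ y, y ∈ perp D d) {v k l m : ℕ}
    (hX : ∀ w ∈ D, Srg (img D w) v k l m) : Below D v k l m := by
  have hG := class_group hC
  have hS := hC.1
  have mem : ∀ (w y : G) (hy : y ∈ perp D w), bar D w y hy ∈ img D w :=
    fun w y hy => ⟨_, hy, rfl⟩
  have hu3 : ∀ a ∈ D, ∀ c ∈ D, ¬ Commute a c → (∃ y, y ∈ perp D a ∩ perp D c) →
      ∀ t ∈ D, ¬ Commute a t → perp D a ∩ perp D c ⊆ perp D t → t = c ∨ t = a * c * a⁻¹ := by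
    intro a ha c hc hac ⟨y, hya, hyc⟩ t ht hat hsub
    have hyt := hsub ⟨hya, hyc⟩
    have pa := perp_symm ha hya; have pc := perp_symm hc hyc; have pt := perp_symm ht hyt
    rcases (hX y hya.1).u3 _ (mem y a pa) _ (mem y c pc) _ (mem y t pt)
      (fun e => hac ((bar_commute hS pa pc).1 e)) (fun e => hat ((bar_commute hS pa pt).1 e))
      (fun x hx => by
        obtain ⟨⟨z, hz'⟩, hz, rfl⟩ := hx.1.1
        exact (bar_perp hC h2 hya.1 pt hz).2 (hsub ⟨(bar_perp hC h2 hya.1 pa hz).1 hx.1,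
          (bar_perp hC h2 hya.1 pc hz).1 hx.2⟩)) with e | e
    · exact Or.inl (bar_inj hC h2 hya.1 pt pc e)
    · refine Or.inr (bar_inj hC h2 hya.1 pt
        (conj_perp hG (Subgroup.subset_closure pa) pc) (e.trans ?_))
      rw [← QuotientGroup.mk_inv, ← QuotientGroup.mk_mul, ← QuotientGroup.mk_mul]
      rfl
  have hcentre : ∀ d ∈ D, ∀ z ∈ H D d, (∀ x ∈ perp D d, Commute z x) → z = 1 ∨ z = d := by
    intro a ha z hz hzc
    have hza : Commute z a := Subgroup.mem_centralizer_singleton_iff.1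
      ((Subgroup.closure_le _).2
        (fun x hx => Subgroup.mem_centralizer_singleton_iff.2 hx.2.2.eq.symm) hz :
          z ∈ Subgroup.centralizer {a})
    obtain ⟨y, hy⟩ := hne a ha
    obtain ⟨c, hc, hac⟩ := perp_noncentral hC h2 hy.1 (perp_symm ha hy)
    have gen : ∀ g : G, Commute g a → (∀ x ∈ perp D a, Commute g x) → Commute g c → g = 1 := by
      intro g hga hgp hgc
      have hw' : ∃ p ∈ D, ∃ q ∈ D, p ≠ q ∧ Commute p q := ⟨a, ha, y, hy.1, hy.2.1.symm, hy.2.2⟩
      obtain ⟨h2', h3⟩ := pCores_central_of_primitive hG hprim hw'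
      obtain ⟨L, hn, hL, -⟩ := exists_component_data hC hprim.2.1 h2' h3
      have hidx := index_le_two_of_connected hC hL (connected_of_primitive hG hprim hw')
      set T := {x : G | x ∈ D ∧ Commute a x} ∪ {c}
      have hT : IsDSubgroup D (Subgroup.closure T) := le_antisymm
        ((Subgroup.closure_le _).2 fun x hx => hx.2)
        (Subgroup.closure_mono fun x hx => ⟨hx.elim (fun h => h.1) (fun h => h.symm ▸ hc.1),
          Subgroup.subset_closure hx⟩)
      have hle : Subgroup.closure T ≤ Subgroup.centralizer {g} := by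
        refine (Subgroup.closure_le _).2 fun x hx => Subgroup.mem_centralizer_singleton_iff.2 ?_
        rcases hx with ⟨hx, hax⟩ | rfl
        · by_cases e : x = a
          · exact e ▸ hga.eq.symm
          · exact (hgp x ⟨hx, e, hax⟩).eq.symm
        · exact hgc.eq.symm
      rcases perp_maximal hC hprim.2.1 h2' h3 hL hidx ha hT
          (Subgroup.closure_mono Set.subset_union_left) with e | e
      · have hcl : Subgroup.closure {x : G | x ∈ D ∧ Commute a x} ≤ Subgroup.centralizer {a} :=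
          (Subgroup.closure_le _).2 fun x hx => Subgroup.mem_centralizer_singleton_iff.2 hx.2.eq.symm
        exact absurd (Subgroup.mem_centralizer_singleton_iff.1
          (hcl (e ▸ Subgroup.subset_closure (Or.inr rfl : c ∈ T)))).symm hac
      · have : g ∈ Subgroup.center G := Subgroup.mem_center_iff.2 fun x =>
          Subgroup.mem_centralizer_singleton_iff.1 (hle (e ▸ Subgroup.mem_top x))
        rwa [hZ, Subgroup.mem_bot] at this
    by_cases hzcc : z * c * z⁻¹ = c
    · exact Or.inl (gen z hza hzc (mul_inv_eq_iff_eq_mul.1 hzcc))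
    refine Or.inr ?_
    have hnt : ¬ Commute a (z * c * z⁻¹) := fun h => hac (by
      rw [← conj_eq_of_commute hza, commute_conj_iff] at h
      exact h)
    rcases hu3 a ha c hc.1 hac ⟨y, hy, perp_symm hy.1 hc⟩ _ (hG.2.1 z c hc.1) hnt
      (fun x hx => by
        have := perp_conj hG z hx.2
        rwa [conj_eq_of_commute (hzc x hx.1)] at this) with e | e
    · exact absurd e hzcc
    have h1 : a⁻¹ * z = 1 := gen _ ((Commute.refl a).inv_left.mul_left hza)
      (fun x hx => hx.2.2.inv_left.mul_left (hzc x hx)) (by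
        refine mul_inv_eq_iff_eq_mul.1 ?_
        rw [mul_inv_rev, inv_inv, show a⁻¹ * z * c * (z⁻¹ * a) = a⁻¹ * (z * c * z⁻¹) * a by group, e]
        group)
    exact (inv_mul_eq_one.1 h1).symm
  -- elements of a perp group centralising a member
  have hkey : ∀ d ∈ D, ∀ b ∈ perp D d, ∀ x ∈ H D b, Commute x d → x ∈ H D d := by
    intro d hd b hb x hx hxd
    have pd := perp_symm hd hb
    set π := QuotientGroup.mk' (Subgroup.center ↥(H D b))
    have h1 : π ⟨x, hx⟩ ∈ H (img D b) (bar D b d pd) := by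
      rw [← (hX b hb.1).cent _ (mem b d pd), Subgroup.mem_centralizer_singleton_iff]
      exact (show Commute (⟨x, hx⟩ : ↥(H D b)) ⟨d, Subgroup.subset_closure pd⟩ from
        Subtype.ext hxd).map π
    have h2' : H (img D b) (bar D b d pd) ≤ ((H D d).subgroupOf (H D b)).map π := by
      refine (Subgroup.closure_le _).2 fun z hz => ?_
      obtain ⟨⟨z, hz'⟩, hzm, rfl⟩ := hz.1
      exact ⟨⟨z, hz'⟩, Subgroup.subset_closure ⟨hzm.1, fun e => ((bar_perp hC h2 hb.1 pd hzm).1 hz).2.1 e,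
        ((bar_perp hC h2 hb.1 pd hzm).1 hz).2.2⟩, rfl⟩
    obtain ⟨h, hh, e⟩ := h2' h1
    have hz := QuotientGroup.eq.1 e
    have hbH : b ∈ H D d := Subgroup.subset_closure hb
    have hx' : x = (h : G) * ((h⁻¹ * ⟨x, hx⟩ : ↥(H D b)) : G) := by simp
    rw [hx']
    refine mul_mem hh ?_
    rcases hcentre b hb.1 _ (h⁻¹ * ⟨x, hx⟩ : ↥(H D b)).2 fun y hy => commute_of_mem_center hz hy
      with e | e <;> rw [e]
    exacts [one_mem _, hbH]
  refine ⟨⟨fun d hd => ?_, fun d hd b hb => ?_, fun d hd b hb x hx => ?_,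
    fun d hd b hb e he hbe => ?_⟩, ?_, hu3, hcentre, hkey, fun d hd => ?_⟩
  · rw [← (hX d hd).card]
    exact ncard_bar hC h2 hd _ _ subset_rfl subset_rfl fun z hz => ⟨fun _ => hz, fun _ => mem d z hz⟩
  · rw [← (hX d hd).size _ (mem d b hb)]
    exact ncard_bar hC h2 hd _ _ Set.inter_subset_left (fun z hz => hz.1) fun z hz =>
      ⟨fun h => ⟨hz, (bar_perp hC h2 hd hb hz).1 h⟩, fun h => (bar_perp hC h2 hd hb hz).2 h.2⟩
  · rw [← (hX d hd).pair _ (mem d b hb) _ ((bar_perp hC h2 hd hb hx.1).2 hx.2)]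
    exact ncard_bar hC h2 hd _ _ (fun z hz => hz.1.1) (fun z hz => hz.1.1) fun z hz =>
      ⟨fun h => ⟨⟨hz, (bar_perp hC h2 hd hb hz).1 h.1⟩, (bar_perp hC h2 hd hx.1 hz).1 h.2⟩,
        fun h => ⟨(bar_perp hC h2 hd hb hz).2 h.1.2, (bar_perp hC h2 hd hx.1 hz).2 h.2⟩⟩
  · rw [← (hX d hd).mu _ (mem d b hb) _ (mem d e he) fun h => hbe ((bar_commute hS hb he).1 h)]
    exact ncard_bar hC h2 hd _ _ (fun z hz => hz.1.1) (fun z hz => hz.1.1) fun z hz =>
      ⟨fun h => ⟨⟨hz, (bar_perp hC h2 hd hb hz).1 h.1⟩, (bar_perp hC h2 hd he hz).1 h.2⟩,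
        fun h => ⟨(bar_perp hC h2 hd hb hz).2 h.1.2, (bar_perp hC h2 hd he hz).2 h.2⟩⟩
  · intro d hd b hb x hx y hy hxy
    obtain ⟨z, hz⟩ := (hX d hd).tri _ (mem d b hb) _ ((bar_perp hC h2 hd hb hx.1).2 hx.2) _
      ((bar_perp hC h2 hd hb hy.1).2 hy.2) fun h => hxy ((bar_commute hS hx.1 hy.1).1 h)
    obtain ⟨⟨z, hz'⟩, hzm, rfl⟩ := hz.1.1.1
    exact ⟨z, ⟨hzm, (bar_perp hC h2 hd hb hzm).1 hz.1.1⟩, (bar_perp hC h2 hd hx.1 hzm).1 hz.1.2,
      (bar_perp hC h2 hd hy.1 hzm).1 hz.2⟩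
  · obtain ⟨b, hb⟩ := hne d hd
    exact hkey d hd b hb d (Subgroup.subset_closure (perp_symm hd hb)) (Commute.refl d)

end Cfsg.Agent.Fischer3Srg
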