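import Cfsg.Agent.Lib.Fischer3Srg.Rank

/-!
# The common perp of two noncommuting members
-/

set_option autoImplicit false
set_option linter.unusedSectionVars false
set_option linter.style.haveILetI false

namespace Cfsg.Agent.Fischer3Srg

open Cfsg ClassK Fischer3 Fischer3Rel

universe u

variable {G : Type u} [Group G] [Finite G] {D : Set G}

/-- The group of the common perp. -/
abbrev L (D : Set G) (d c : G) : Subgroup G := Subgroup.closure (perp D d ∩ perp D c)

/-- In the perps, the common perps of noncommuting members have trivial centralisers. -/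
def RigidBelow (D : Set G) : Prop :=
  ∀ x ∈ D, ∀ a ∈ perp D x, ∀ e ∈ perp D x, ¬ Commute a e → ∀ g ∈ H D x, Commute g a → Commute g e →
    (∀ y ∈ perp D x ∩ perp D a ∩ perp D e, Commute g y) → g = 1 ∨ g = x

/-- The common perps of noncommuting members have trivial centralisers. -/
def Rigid (D : Set G) : Prop :=
  ∀ d ∈ D, ∀ c ∈ D, ¬ Commute d c → ∀ g ∈ H D d, Commute g c →
    (∀ y ∈ perp D d ∩ perp D c, Commute g y) → g = 1

theorem noncomm_in_common {k k' l' m' μ : ℕ} (hB : Local D k k' l' m')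
    (hμ : ∀ d ∈ D, ∀ c ∈ D, ¬ Commute d c → (perp D d ∩ perp D c).ncard = μ) (hm : m' + 1 < μ)
    {d c : G} (hd : d ∈ D) (hc : c ∈ D) (hdc : ¬ Commute d c) {x : G}
    (hx : x ∈ perp D d ∩ perp D c) : ∃ z ∈ perp D d ∩ perp D c, ¬ Commute x z := by
  by_contra! h
  have hsub : perp D d ∩ perp D c ⊆ perp D x ∩ perp D d ∩ perp D c ∪ {x} := fun z hz => by
    by_cases e : z = x
    · exact Or.inr e
    · exact Or.inl ⟨⟨⟨hz.1.1, e, h z hz⟩, hz.1⟩, hz.2⟩
  have h1 := Set.ncard_le_ncard hsub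
  have h2 := Set.ncard_union_le (perp D x ∩ perp D d ∩ perp D c) {x}
  rw [hμ d hd c hc hdc] at h1
  rw [Set.ncard_singleton, hB.mix x hx.1.1 d (perp_symm hd hx.1) c (perp_symm hc hx.2) hdc] at h2
  omega

theorem rigid {k k' l' m' μ : ℕ} (hB : Below D k k' l' m') (hR : RigidBelow D)
    (hμ : ∀ d ∈ D, ∀ c ∈ D, ¬ Commute d c → (perp D d ∩ perp D c).ncard = μ) (hm : m' + 1 < μ) :
    Rigid D := by
  intro d hd c hc hdc g hg hgc hS
  obtain ⟨x, hx⟩ := Set.nonempty_of_ncard_ne_zero (s := perp D d ∩ perp D c)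
    (by rw [hμ d hd c hc hdc]; omega)
  rcases hR x hx.1.1 d (perp_symm hd hx.1) c (perp_symm hc hx.2) hdc g
      (hB.key x hx.1.1 d (perp_symm hd hx.1) g hg (hS x hx)) (commute_of_mem_H hg) hgc
      (fun y hy => hS y ⟨hy.1.2, hy.2⟩) with e | e
  · exact e
  · obtain ⟨z, hz, hn⟩ := noncomm_in_common hB.loc hμ hm hd hc hdc hx
    exact absurd (e ▸ hS z hz) hn

theorem center_L (hR : Rigid D) {d c : G} (hd : d ∈ D) (hc : c ∈ D) (hdc : ¬ Commute d c) :
    Subgroup.center ↥(L D d c) = ⊥ := by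
  refine eq_bot_iff.2 fun x hx => Subgroup.mem_bot.2 (Subtype.ext ?_)
  refine hR d hd c hc hdc x (Subgroup.closure_mono Set.inter_subset_left x.2) ?_
    fun y hy => commute_of_mem_center hx hy
  exact Subgroup.mem_centralizer_singleton_iff.1 ((Subgroup.closure_le _).2
    (fun y hy => Subgroup.mem_centralizer_singleton_iff.2 hy.2.2.2.eq.symm) x.2 :
      (x : G) ∈ Subgroup.centralizer {c})

theorem card_L (hR : Rigid D) {d c : G} (hd : d ∈ D) (hc : c ∈ D) (hdc : ¬ Commute d c) :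
    Nat.card ↥(L D d c) = Nat.card (↥(L D d c) ⧸ Subgroup.center ↥(L D d c)) := by
  rw [Subgroup.card_eq_card_quotient_mul_card_subgroup (Subgroup.center ↥(L D d c)),
    center_L hR hd hc hdc, Subgroup.card_bot, mul_one]

/-- The size of the common perp times a stabiliser divides the order of its group. -/
theorem mu_mul_dvd (hG : IsThreeTranspositionGroup D) {k k' l' m' μ : ℕ} (hB : Local D k k' l' m')
    (hμ : ∀ d ∈ D, ∀ c ∈ D, ¬ Commute d c → (perp D d ∩ perp D c).ncard = μ) (hm : 2 * m' + 2 < μ)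
    {d c : G} (hd : d ∈ D) (hc : c ∈ D) (hdc : ¬ Commute d c) {b : G}
    (hb : b ∈ perp D d ∩ perp D c) {T : Subgroup G} (hT : T ≤ L D d c) (hTb : ∀ t ∈ T, Commute t b) :
    μ * Nat.card ↥T ∣ Nat.card ↥(L D d c) := by
  set S := perp D d ∩ perp D c with hSdef
  have hconj : ∀ g ∈ L D d c, ∀ y ∈ S, g * y * g⁻¹ ∈ S := fun g hg y hy =>
    ⟨conj_perp hG (Subgroup.closure_mono Set.inter_subset_left hg) hy.1,
      conj_perp hG (Subgroup.closure_mono Set.inter_subset_right hg) hy.2⟩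
  have hnc : ∀ x ∈ S, ∀ y ∈ S, ¬ Commute x y → ∃ g ∈ L D d c, g * x * g⁻¹ = y := fun x hx y hy h =>
    ⟨x * y, mul_mem (Subgroup.subset_closure hx) (Subgroup.subset_closure hy),
      conj_noncomm hG.1 hx.1.1 hy.1.1 h⟩
  have horb : ∀ y ∈ S, ∃ g ∈ L D d c, g * b * g⁻¹ = y := by
    intro y hy
    by_cases hby : Commute b y
    · obtain ⟨z, hz, h1, h2⟩ : ∃ z ∈ S, ¬ Commute b z ∧ ¬ Commute z y := by
        by_contra! h
        have hsub : S ⊆ perp D b ∩ perp D d ∩ perp D c ∪ perp D y ∩ perp D d ∩ perp D c ∪ {b, y} :=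
          fun z hz => by
            by_cases e₁ : z = b
            · exact Or.inr (Or.inl e₁)
            by_cases e₂ : z = y
            · exact Or.inr (Or.inr e₂)
            by_cases hbz : Commute b z
            · exact Or.inl (Or.inl ⟨⟨⟨hz.1.1, e₁, hbz⟩, hz.1⟩, hz.2⟩)
            · exact Or.inl (Or.inr ⟨⟨⟨hz.1.1, e₂, (h z hz hbz).symm⟩, hz.1⟩, hz.2⟩)
        have h1 := Set.ncard_le_ncard hsub
        have h2 := Set.ncard_union_le (perp D b ∩ perp D d ∩ perp D c ∪ perp D y ∩ perp D d ∩ perp D c)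
          {b, y}
        have h3 := Set.ncard_union_le (perp D b ∩ perp D d ∩ perp D c) (perp D y ∩ perp D d ∩ perp D c)
        have h4 : ({b, y} : Set G).ncard ≤ 2 :=
          (Set.ncard_insert_le b {y}).trans (by rw [Set.ncard_singleton])
        rw [hB.mix b hb.1.1 d (perp_symm hd hb.1) c (perp_symm hc hb.2) hdc,
          hB.mix y hy.1.1 d (perp_symm hd hy.1) c (perp_symm hc hy.2) hdc] at h3
        rw [hSdef, hμ d hd c hc hdc] at h1
        omega
      obtain ⟨g₁, hg₁, e₁⟩ := hnc b hb z hz h1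
      obtain ⟨g₂, hg₂, e₂⟩ := hnc z hz y hy h2
      exact ⟨g₂ * g₁, mul_mem hg₂ hg₁, by rw [← e₂, ← e₁]; group⟩
    · exact hnc b hb y hy hby
  let act : MulAction ↥(L D d c) G := MulAction.compHom G ((MulAut.conj).comp (L D d c).subtype)
  letI := act
  have hsmul : ∀ (g : ↥(L D d c)) (x : G), g • x = (g : G) * x * (g : G)⁻¹ := fun _ _ => rfl
  have hOrb : MulAction.orbit ↥(L D d c) b = S := by
    ext y
    simp only [MulAction.mem_orbit_iff, hsmul]
    exact ⟨fun ⟨g, e⟩ => e ▸ hconj g g.2 b hb, fun hy => by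
      obtain ⟨g, hg, e⟩ := horb y hy
      exact ⟨⟨g, hg⟩, e⟩⟩
  have hle : T.subgroupOf (L D d c) ≤ MulAction.stabilizer ↥(L D d c) b := fun t ht => by
    rw [MulAction.mem_stabilizer_iff, hsmul]
    exact conj_eq_of_commute (hTb t ht)
  have hμ' : Nat.card (↥(L D d c) ⧸ MulAction.stabilizer ↥(L D d c) b) = μ := by
    rw [← Nat.card_congr (MulAction.orbitEquivQuotientStabilizer ↥(L D d c) b), Nat.card_coe_set_eq,
      hOrb, hSdef, hμ d hd c hc hdc]
  rw [Subgroup.card_eq_card_quotient_mul_card_subgroup (MulAction.stabilizer ↥(L D d c) b), hμ',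
    ← Nat.card_congr (Subgroup.subgroupOfEquivOfLe hT).toEquiv]
  exact mul_dvd_mul_left μ (Subgroup.card_dvd_of_le hle)

/-- The stabiliser coming from the perp of a member. -/
abbrev locStab (D : Set G) (d c b : G) : Subgroup G :=
  Subgroup.closure (perp D b ∩ perp D d ∩ perp D c ∪ {b})

theorem locStab_le (d c b : G) (hb : b ∈ perp D d ∩ perp D c) : locStab D d c b ≤ L D d c :=
  Subgroup.closure_mono (Set.union_subset (fun _ h => ⟨h.1.2, h.2⟩) (Set.singleton_subset_iff.2 hb))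

theorem locStab_le_H (hself : ∀ d ∈ D, d ∈ H D d) (d c b : G) (hb : b ∈ D) :
    locStab D d c b ≤ H D b :=
  (Subgroup.closure_le _).2 (Set.union_subset (fun _ h => Subgroup.subset_closure h.1.1)
    (Set.singleton_subset_iff.2 (hself b hb)))

/-- A stabiliser is twice as big as its image modulo the member. -/
theorem two_mul_dvd {Y : Type*} [Group Y] (hS : IsThreeTranspositionSet D) {b : G} (hb : b ∈ D)
    {T : Subgroup G} (hTH : T ≤ H D b) (hbT : b ∈ T) (π : ↥(H D b) →* Y)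
    (hπ : ∀ h : b ∈ H D b, π ⟨b, h⟩ = 1) {n : ℕ}
    (hn : n ∣ Nat.card ↥((T.subgroupOf (H D b)).map π)) : 2 * n ∣ Nat.card ↥T := by
  set ρ : ↥(T.subgroupOf (H D b)) →* Y := π.comp (T.subgroupOf (H D b)).subtype
  have hr : ρ.range = (T.subgroupOf (H D b)).map π := by
    rw [MonoidHom.range_comp, Subgroup.range_subtype]
  have h2 : 2 ∣ Nat.card ↥ρ.ker := by
    let β : ↥ρ.ker := ⟨⟨⟨b, hTH hbT⟩, hbT⟩, hπ (hTH hbT)⟩
    have : orderOf β = 2 := by
      rw [← orderOf_injective (((H D b).subtype.comp (T.subgroupOf (H D b)).subtype).comp ρ.ker.subtype)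
        (fun x y e => Subtype.ext (Subtype.ext (Subtype.ext e))) β]
      exact hS.1 b hb
    rw [← this]; exact orderOf_dvd_natCard β
  rw [← Nat.card_congr (Subgroup.subgroupOfEquivOfLe hTH).toEquiv,
    Subgroup.card_eq_card_quotient_mul_card_subgroup ρ.ker,
    Nat.card_congr (QuotientGroup.quotientKerEquivRange ρ).toEquiv, hr, mul_comm]
  exact mul_dvd_mul hn h2

end Cfsg.Agent.Fischer3Srg
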