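import Cfsg.Agent.Lib.Fischer3Rel.Perp
import Cfsg.Agent.Lib.Fischer3.PrimitiveIff

/-!
# Counting in rank three groups of 3-transpositions
-/

set_option autoImplicit false
set_option linter.unusedSectionVars false
set_option linter.style.haveILetI false

namespace Cfsg.Agent.Fischer3Srg

open Cfsg ClassK Fischer3 Fischer3Rel

universe u

variable {G : Type u} [Group G] [Finite G] {D : Set G}

/-- The numbers of common neighbours seen in the perps: `k` neighbours, `k'` for a commuting pair,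
`l'` for a commuting triple, `m'` for two noncommuting members and a third commuting with both. -/
structure Local (D : Set G) (k k' l' m' : ℕ) : Prop where
  size : ∀ d ∈ D, (perp D d).ncard = k
  pair : ∀ d ∈ D, ∀ b ∈ perp D d, (perp D d ∩ perp D b).ncard = k'
  trip : ∀ d ∈ D, ∀ b ∈ perp D d, ∀ x ∈ perp D d ∩ perp D b,
    (perp D d ∩ perp D b ∩ perp D x).ncard = l'
  mix : ∀ d ∈ D, ∀ b ∈ perp D d, ∀ e ∈ perp D d, ¬ Commute b e →
    (perp D d ∩ perp D b ∩ perp D e).ncard = m'

theorem perp_symm {d x : G} (hd : d ∈ D) (hx : x ∈ perp D d) : d ∈ perp D x :=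
  ⟨hd, hx.2.1.symm, hx.2.2.symm⟩

theorem setup (hG : IsThreeTranspositionGroup D) (hprim : IsPrimitiveUnderConj D)
    (hZ : Subgroup.center G = ⊥) (hw : ∃ a ∈ D, ∃ b ∈ D, a ≠ b ∧ Commute a b) :
    Fischer.Setup D := by
  have hC := class_of_primitive hG hprim
  have hs := (simple_iff_primitive hC hZ hw).1.2 hprim
  refine ⟨hC, hs, ?_⟩
  by_contra! hab
  obtain ⟨L, hn, hL, -⟩ := exists_component_data hC hprim.2.1
    (pCores_central_of_primitive hG hprim hw).1 (pCores_central_of_primitive hG hprim hw).2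
  have e := commutator_eq_of_index_le_two hL
    (index_le_two_of_connected hC hL (connected_of_primitive hG hprim hw))
  haveI := hL.2
  have h1 : ∀ x : ↥L, x ∈ Subgroup.center ↥L := fun x => Subgroup.mem_center_iff.2 fun y =>
    Subtype.ext (congrArg (fun z : ↥(commutator G) => (z : G))
      (hab ⟨y, e.ge y.2⟩ ⟨x, e.ge x.2⟩))
  obtain ⟨x, y, hxy⟩ := exists_pair_ne (↥L ⧸ Subgroup.center ↥L)
  obtain ⟨x, rfl⟩ := QuotientGroup.mk_surjective x
  obtain ⟨y, rfl⟩ := QuotientGroup.mk_surjective y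
  exact hxy (QuotientGroup.eq.2 (h1 _))

/-- The common perps of noncommuting pairs have one size. -/
theorem exists_mu (hS : Fischer.Setup D) (hG : IsThreeTranspositionGroup D) :
    ∃ m : ℕ, ∀ d ∈ D, ∀ c ∈ D, ¬ Commute d c → (perp D d ∩ perp D c).ncard = m := by
  obtain ⟨a, ha, b, hb, hab⟩ := Fischer.exists_not_commute hS
  refine ⟨(perp D a ∩ perp D b).ncard, fun d hd c hc hdc => ?_⟩
  obtain ⟨g, hg⟩ := Fischer.exists_conj hS hd ha
  obtain ⟨g', hg'a, hg'⟩ := (Fischer.rank_three hS ha).2 (g * c * g⁻¹) (hG.2.1 g c hc) b hb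
    (hg ▸ fun e => hdc ((commute_conj_iff g _ _).1 e)) hab
  set h := g' * g
  have h1 : h * d * h⁻¹ = a := by
    rw [show h * d * h⁻¹ = g' * (g * d * g⁻¹) * g'⁻¹ by simp [h, mul_assoc], hg,
      conj_eq_of_commute hg'a]
  have h2 : h * c * h⁻¹ = b := by
    rw [show h * c * h⁻¹ = g' * (g * c * g⁻¹) * g'⁻¹ by simp [h, mul_assoc], hg']
  have himg : perp D a ∩ perp D b = (fun x => h * x * h⁻¹) '' (perp D d ∩ perp D c) := by
    ext x
    constructor
    · rintro ⟨x1, x2⟩
      refine ⟨h⁻¹ * x * h, ⟨?_, ?_⟩, by group⟩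
      · have := perp_conj hG h⁻¹ x1
        rwa [inv_inv, ← h1, show h⁻¹ * (h * d * h⁻¹) * h = d by group] at this
      · have := perp_conj hG h⁻¹ x2
        rwa [inv_inv, ← h2, show h⁻¹ * (h * c * h⁻¹) * h = c by group] at this
    · rintro ⟨y, hy, rfl⟩
      exact ⟨h1 ▸ perp_conj hG h hy.1, h2 ▸ perp_conj hG h hy.2⟩
  rw [himg, Set.ncard_image_of_injective _ fun x y e => mul_left_cancel (mul_right_cancel e)]

section

variable {k k' l' m' μ : ℕ} (hL : Local D k k' l' m')
  (hμ : ∀ d ∈ D, ∀ c ∈ D, ¬ Commute d c → (perp D d ∩ perp D c).ncard = μ)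
include hL hμ

set_option maxHeartbeats 1000000 in
/-- The first two moments of the number of neighbours in a common perp. -/
theorem moments {d c : G} (hd : d ∈ D) (hc : c ∈ D) (hdc : ¬ Commute d c) :
    ((k : ℤ) - μ) *
        (μ * k' + μ * m' * l' + μ * (μ - 1 - m') * m' - μ * m' * m') -
        ((μ : ℤ) * k' - μ * m') ^ 2 ≥ 0 ∧
    (((k : ℤ) - μ) *
        (μ * k' + μ * m' * l' + μ * (μ - 1 - m') * m' - μ * m' * m') -
        ((μ : ℤ) * k' - μ * m') ^ 2 = 0 → μ < k → ∀ p ∈ perp D d, p ∉ perp D c →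
      ((k : ℤ) - μ) * (perp D d ∩ perp D c ∩ perp D p).ncard = μ * k' - μ * m') := by
  classical
  have := Fintype.ofFinite G
  set P : Finset G := (perp D d).toFinset with hP
  set S : Finset G := (perp D d ∩ perp D c).toFinset with hSdef
  have hcard : ∀ (s : Set G) [Fintype s], s.toFinset.card = s.ncard := fun s _ =>
    (Set.ncard_eq_toFinset_card' s).symm
  let n : G → ℤ := fun p => ∑ x ∈ S, if p ∈ perp D x then 1 else 0
  have hn : ∀ p ∈ P, n p = (perp D d ∩ perp D c ∩ perp D p).ncard := by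
    intro p hp
    have hp' : p ∈ perp D d := Set.mem_toFinset.1 hp
    simp only [n, Finset.sum_boole, ← hcard]
    congr 1
    refine congrArg Finset.card (Finset.ext fun x => ?_)
    simp only [hSdef, Finset.mem_filter, Set.mem_toFinset]
    exact ⟨fun h => ⟨h.1, perp_symm h.1.1.1 h.2⟩, fun h => ⟨h.1, perp_symm hp'.1 h.2⟩⟩
  have hSP : S ⊆ P := fun x hx => Set.mem_toFinset.2 (Set.mem_toFinset.1 hx).1
  have hS : ∀ p ∈ S, n p = m' := by
    intro p hp
    have hp' := Set.mem_toFinset.1 hp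
    rw [hn p (hSP hp), ← hL.mix p hp'.1.1 d (perp_symm hd hp'.1) c (perp_symm hc hp'.2) hdc]
    congr 2
    rw [Set.inter_comm, Set.inter_assoc]
  have hk : (P.card : ℤ) = k := by rw [hP, hcard, hL.size d hd]
  have hm : (S.card : ℤ) = μ := by rw [hSdef, hcard, hμ d hd c hc hdc]
  -- the first moment
  have h1 : ∑ p ∈ P, n p = μ * k' := by
    rw [Finset.sum_comm, Finset.sum_congr rfl (g := fun _ => (k' : ℤ)) fun x hx => ?_, Finset.sum_const,
      nsmul_eq_mul, hm]
    have hx' := Set.mem_toFinset.1 hx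
    simp only [Finset.sum_boole, ← hL.pair d hd x hx'.1, ← hcard]
    congr 1
    refine congrArg Finset.card (Finset.ext fun z => ?_)
    simp [hP, and_assoc]
  -- the second moment
  have h2 : ∑ p ∈ P, n p * n p = μ * k' + μ * m' * l' + μ * ((μ : ℤ) - 1 - m') * m' := by
    have e : ∀ p, n p * n p = ∑ x ∈ S, ∑ y ∈ S,
        if p ∈ perp D x ∧ p ∈ perp D y then (1 : ℤ) else 0 := by
      intro p
      simp only [n, Finset.sum_mul_sum]
      refine Finset.sum_congr rfl fun x _ => Finset.sum_congr rfl fun y _ => ?_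
      split_ifs <;> simp_all
    simp only [e]
    rw [Finset.sum_comm]
    have inner : ∀ x ∈ S, (∑ p ∈ P, ∑ y ∈ S, if p ∈ perp D x ∧ p ∈ perp D y then (1 : ℤ) else 0) =
        k' + m' * l' + ((μ : ℤ) - 1 - m') * m' := by
      intro x hx
      rw [Finset.sum_comm]
      have hx' := Set.mem_toFinset.1 hx
      have val : ∀ y ∈ S, (∑ p ∈ P, if p ∈ perp D x ∧ p ∈ perp D y then (1 : ℤ) else 0) =
          if y = x then (k' : ℤ) else if y ∈ perp D x then (l' : ℤ) else (m' : ℤ) := by
        intro y hy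
        have hy' := Set.mem_toFinset.1 hy
        have e : (∑ p ∈ P, if p ∈ perp D x ∧ p ∈ perp D y then (1 : ℤ) else 0) =
            (perp D d ∩ perp D x ∩ perp D y).ncard := by
          rw [Finset.sum_boole, ← hcard]
          congr 1
          refine congrArg Finset.card (Finset.ext fun z => ?_)
          simp [hP, and_assoc]
        rw [e]
        split_ifs with h h'
        · subst h
          rw [Set.inter_assoc, Set.inter_self, hL.pair d hd y hx'.1]
        · rw [hL.trip d hd x hx'.1 y ⟨hy'.1, h'⟩]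
        · rw [hL.mix d hd x hx'.1 y hy'.1 fun e => h' ⟨hy'.1.1, h, e⟩]
      rw [Finset.sum_congr rfl val, ← Finset.add_sum_erase _ _ hx, if_pos rfl]
      have hf : ((S.erase x).filter fun y => y ∈ perp D x).card = m' := by
        rw [← hL.mix x hx'.1.1 d (perp_symm hd hx'.1) c (perp_symm hc hx'.2) hdc, ← hcard]
        refine congrArg Finset.card (Finset.ext fun z => ?_)
        simp only [hSdef, Finset.mem_filter, Finset.mem_erase, Set.mem_toFinset, Set.mem_inter_iff]
        exact ⟨fun h => ⟨⟨h.2, h.1.2.1⟩, h.1.2.2⟩, fun h => ⟨⟨h.1.1.2.1, h.1.2, h.2⟩, h.1.1⟩⟩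
      rw [Finset.sum_congr rfl (g := fun y => if y ∈ perp D x then (l' : ℤ) else (m' : ℤ))
        fun y hy => if_neg (Finset.ne_of_mem_erase hy), Finset.sum_ite, Finset.sum_const,
        Finset.sum_const, nsmul_eq_mul, nsmul_eq_mul, hf]
      have hsplit := Finset.card_filter_add_card_filter_not (s := S.erase x) (fun y => y ∈ perp D x)
      rw [hf, Finset.card_erase_of_mem hx] at hsplit
      have hpos : 1 ≤ S.card := Finset.card_pos.2 ⟨x, hx⟩
      have : (((S.erase x).filter fun y => y ∉ perp D x).card : ℤ) = (μ : ℤ) - 1 - m' := by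
        rw [← hm]; omega
      rw [this]; ring
    rw [Finset.sum_congr rfl inner, Finset.sum_const, nsmul_eq_mul, hm]
    ring
  set O := P \ S
  have hO : (O.card : ℤ) = k - μ := by
    rw [Finset.card_sdiff_of_subset hSP, Nat.cast_sub (Finset.card_le_card hSP), hk, hm]
  have hO1 : ∑ p ∈ O, n p = μ * k' - μ * m' := by
    rw [Finset.sum_sdiff_eq_sub hSP, h1, Finset.sum_congr rfl hS, Finset.sum_const, nsmul_eq_mul, hm]
  have hO2 : ∑ p ∈ O, n p * n p = μ * k' + μ * m' * l' + μ * ((μ : ℤ) - 1 - m') * m' - μ * m' * m' := by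
    rw [Finset.sum_sdiff_eq_sub hSP, h2, Finset.sum_congr rfl (fun p hp => by rw [hS p hp] :
      ∀ p ∈ S, n p * n p = (m' : ℤ) * m'), Finset.sum_const, nsmul_eq_mul, hm]
    ring
  rw [← hO2, ← hO1, ← hO]
  set N : ℤ := (O.card : ℤ)
  set T : ℤ := ∑ p ∈ O, n p
  have key : ∑ p ∈ O, (N * n p - T) ^ 2 = N * (N * (∑ p ∈ O, n p * n p) - T ^ 2) := by
    calc ∑ p ∈ O, (N * n p - T) ^ 2
        = ∑ p ∈ O, (N * N * (n p * n p) - 2 * N * T * n p + T ^ 2) :=
          Finset.sum_congr rfl fun p _ => by ring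
      _ = N * N * (∑ p ∈ O, n p * n p) - 2 * N * T * T + N * T ^ 2 := by
          rw [Finset.sum_add_distrib, Finset.sum_sub_distrib, ← Finset.mul_sum, ← Finset.mul_sum,
            Finset.sum_const, nsmul_eq_mul]
      _ = _ := by ring
  refine ⟨?_, fun he hlt p hp hpc => ?_⟩
  · rcases O.eq_empty_or_nonempty with e | e
    · simp [N, T, e]
    · have hN : 0 < N := Int.natCast_pos.2 (Finset.card_pos.2 e)
      refine nonneg_of_mul_nonneg_right (a := N) ?_ hN
      rw [← key]
      exact Finset.sum_nonneg fun p _ => sq_nonneg _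
  · rw [he, mul_zero] at key
    have hpO : p ∈ O := Finset.mem_sdiff.2
      ⟨Set.mem_toFinset.2 hp, fun h => hpc (Set.mem_toFinset.1 h).2⟩
    have := (Finset.sum_eq_zero_iff_of_nonneg fun x _ => sq_nonneg (N * n x - T)).1 key p hpO
    rw [← hn p (Set.mem_toFinset.2 hp)]
    exact sub_eq_zero.1 ((pow_eq_zero_iff two_ne_zero).1 this)

/-- Counting commuting-noncommuting pairs gives the number of noncommuting members. -/
theorem count_A {d : G} (hd : d ∈ D) :
    ({c : G | c ∈ D ∧ ¬ Commute d c}.ncard : ℤ) * μ = k * ((k : ℤ) - k' - 1) := by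
  classical
  have := Fintype.ofFinite G
  set A : Finset G := {c : G | c ∈ D ∧ ¬ Commute d c}.toFinset with hA
  set P : Finset G := (perp D d).toFinset with hP
  have hcard : ∀ (s : Set G) [Fintype s], s.toFinset.card = s.ncard := fun s _ =>
    (Set.ncard_eq_toFinset_card' s).symm
  have h1 : ∀ c ∈ A, (∑ b ∈ P, if b ∈ perp D c then (1 : ℤ) else 0) = μ := by
    intro c hc
    obtain ⟨hcD, hn⟩ := Set.mem_toFinset.1 hc
    simp only [Finset.sum_boole, ← hμ d hd c hcD hn, ← hcard]
    congr 1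
    refine congrArg Finset.card (Finset.ext fun z => ?_)
    simp [hP, and_assoc]
  have h2 : ∀ b ∈ P, (∑ c ∈ A, if b ∈ perp D c then (1 : ℤ) else 0) = (k : ℤ) - k' - 1 := by
    intro b hb
    have hb' : b ∈ perp D d := Set.mem_toFinset.1 hb
    simp only [Finset.sum_boole]
    have hset : (A.filter fun c => b ∈ perp D c) =
        ((perp D b \ (perp D d ∩ perp D b)) \ {d}).toFinset := by
      ext c
      simp only [hA, Finset.mem_filter, Set.mem_toFinset, Set.mem_sdiff, Set.mem_singleton_iff,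
        Set.mem_inter_iff, Set.mem_ofPred_eq]
      constructor
      · rintro ⟨⟨hc, hn⟩, hbc⟩
        exact ⟨⟨perp_symm hc hbc, fun e => hn e.1.2.2⟩, fun e => hn (e ▸ Commute.refl _)⟩
      · rintro ⟨⟨hc, hn⟩, hne⟩
        exact ⟨⟨hc.1, fun e => hn ⟨⟨hc.1, hne, e⟩, hc⟩⟩, perp_symm hb'.1 hc⟩
    rw [hset, hcard]
    have hd' : d ∈ perp D b \ (perp D d ∩ perp D b) :=
      ⟨perp_symm hd hb', fun e => e.1.2.1 rfl⟩
    have e1 := Set.ncard_sdiff_singleton_add_one hd' (Set.toFinite _)
    have e2 := Set.ncard_sdiff_add_ncard_of_subset (Set.inter_subset_right (s := perp D d) (t := perp D b))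
    rw [hL.size b hb'.1, hL.pair d hd b hb'] at e2
    omega
  have := Finset.sum_comm (s := A) (t := P) (f := fun c b => if b ∈ perp D c then (1 : ℤ) else 0)
  rw [Finset.sum_congr rfl h1, Finset.sum_congr rfl h2, Finset.sum_const, Finset.sum_const,
    nsmul_eq_mul, nsmul_eq_mul, hcard, hcard, hL.size d hd] at this
  exact this

/-- The number of members. -/
theorem card_D {d : G} (hd : d ∈ D) :
    D.ncard = 1 + k + {c : G | c ∈ D ∧ ¬ Commute d c}.ncard := by
  classical
  have hdisj : Disjoint ({d} ∪ perp D d) {c : G | c ∈ D ∧ ¬ Commute d c} :=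
    Set.disjoint_left.2 fun x hx hx' => hx.elim (fun e => hx'.2 (e ▸ Commute.refl _)) fun e => hx'.2 e.2.2
  have hun : D = ({d} ∪ perp D d) ∪ {c : G | c ∈ D ∧ ¬ Commute d c} := by
    ext x
    constructor
    · intro hx
      by_cases e : x = d
      · exact Or.inl (Or.inl e)
      by_cases h : Commute d x
      · exact Or.inl (Or.inr ⟨hx, e, h⟩)
      · exact Or.inr ⟨hx, h⟩
    · rintro ((rfl | hx) | hx)
      exacts [hd, hx.1, hx.1]
  conv_lhs => rw [hun]
  rw [Set.ncard_union_eq hdisj (Set.toFinite _) (Set.toFinite _),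
    Set.ncard_union_eq (Set.disjoint_singleton_left.2 fun e => e.2.1 rfl) (Set.toFinite _) (Set.toFinite _),
    Set.ncard_singleton, hL.size d hd]

end

end Cfsg.Agent.Fischer3Srg
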