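import Cfsg.Agent.Lib.Fischer3Srg.Trans

/-!
# Short products of commuting members
-/

set_option autoImplicit false
set_option linter.unusedSectionVars false

namespace Cfsg.Agent.Fischer3Srg

open Cfsg ClassK Fischer3 Fischer3Rel

universe u

variable {G : Type u} [Group G] [Finite G] {D : Set G}

/-- A list of `n` different commuting members with product `j`. -/
def Fac (D : Set G) (n : ℕ) (j : G) (l : List G) : Prop :=
  l.Nodup ∧ l.length = n ∧ (∀ a ∈ l, a ∈ D) ∧ (∀ a ∈ l, ∀ b ∈ l, Commute a b) ∧ l.prod = j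

theorem prod_sq (hS : IsThreeTranspositionSet D) :
    ∀ {l : List G}, (∀ a ∈ l, a ∈ D) → (∀ a ∈ l, ∀ b ∈ l, Commute a b) → l.prod * l.prod = 1
  | [], _, _ => by simp
  | a :: t, h1, h2 => by
    have hc : Commute a t.prod :=
      Commute.list_prod_right t a fun y hy => h2 a (by simp) y (by simp [hy])
    rw [List.prod_cons, Commute.mul_mul_mul_comm (Commute.symm hc), tt_mul_self hS (h1 a (by simp)),
      one_mul]
    exact prod_sq hS (fun y hy => h1 y (by simp [hy])) fun y hy z hz => h2 y (by simp [hy]) z (by simp [hz])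

theorem Fac.erase (hS : IsThreeTranspositionSet D) {j x : G} {n : ℕ} {l : List G}
    (h : Fac D (n + 1) j l) (hx : x ∈ l) [DecidableEq G] : Fac D n (x * j) (l.erase x) := by
  refine ⟨h.1.erase x, by rw [List.length_erase_of_mem hx, h.2.1]; omega, fun y hy =>
    h.2.2.1 y (List.mem_of_mem_erase hy), fun y hy z hz =>
    h.2.2.2.1 y (List.mem_of_mem_erase hy) z (List.mem_of_mem_erase hz), ?_⟩
  rw [← h.2.2.2.2, (List.perm_cons_erase hx).prod_eq' (List.pairwise_of_forall_mem_list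
    h.2.2.2.1), List.prod_cons, ← mul_assoc, tt_mul_self hS (h.2.2.1 x hx), one_mul]

theorem Fac.rel (hS : IsThreeTranspositionSet D) {j : G} {n n' : ℕ} (hn' : n' ≤ 3) {l l' : List G}
    (h : Fac D n j l) (h' : Fac D n' j l') (hdis : ∀ a ∈ l, a ∉ l') : IsRel D (l ++ l') := by
  have hc : ∀ a ∈ l, ∀ b ∈ l', Commute a b := fun a ha => by
    refine commute_each hS h'.1 (h'.2.1.trans_le hn') h'.2.2.1 h'.2.2.2.1 (h.2.2.1 a ha) ?_
    rw [h'.2.2.2.2, ← h.2.2.2.2]
    exact Commute.list_prod_right l a fun z hz => h.2.2.2.1 a ha z hz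
  refine ⟨List.nodup_append.2 ⟨h.1, h'.1, fun a ha b hb e => hdis a ha (e ▸ hb)⟩,
    fun a ha => (List.mem_append.1 ha).elim (h.2.2.1 a) (h'.2.2.1 a), fun a ha b hb => ?_, ?_⟩
  · rcases List.mem_append.1 ha with ha | ha <;> rcases List.mem_append.1 hb with hb | hb
    exacts [h.2.2.2.1 a ha b hb, hc a ha b hb, (hc b hb a ha).symm, h'.2.2.2.1 a ha b hb]
  · rw [List.prod_append, h.2.2.2.2, ← h'.2.2.2.2]
    exact prod_sq hS h'.2.2.1 h'.2.2.2.1

theorem fac_two {a b : G} (ha : a ∈ D) (hb : b ∈ perp D a) : Fac D 2 (a * b) [a, b] :=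
  ⟨by simp [hb.2.1.symm], rfl, by simp [ha, hb.1], by simp [hb.2.2, hb.2.2.symm], by simp⟩

theorem fac_three {a b c : G} (ha : a ∈ D) (hb : b ∈ perp D a) (hc : c ∈ perp D a ∩ perp D b) :
    Fac D 3 (a * b * c) [a, b, c] := by
  refine ⟨?_, rfl, ?_, ?_, by simp [mul_assoc]⟩
  · simp [hb.2.1.symm, hc.1.2.1.symm, hc.2.2.1.symm]
  · simp [ha, hb.1, hc.1.1]
  · simp [hb.2.2, hb.2.2.symm, hc.1.2.2, hc.1.2.2.symm, hc.2.2.2, hc.2.2.2.symm]

theorem Fac.three {j : G} {l : List G} (h : Fac D 3 j l) :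
    ∃ a b c : G, l = [a, b, c] ∧ a ∈ D ∧ b ∈ perp D a ∧ c ∈ perp D a ∩ perp D b ∧ a * b * c = j := by
  obtain ⟨hn, hlen, hmem, hcm, hp⟩ := h
  obtain ⟨a, b, c, rfl⟩ := List.length_eq_three.1 hlen
  simp only [List.nodup_cons, List.mem_cons, List.not_mem_nil, or_false, not_or] at hn
  refine ⟨a, b, c, rfl, hmem a (by simp), ⟨hmem b (by simp), Ne.symm hn.1.1, hcm a (by simp) b (by simp)⟩,
    ⟨⟨hmem c (by simp), Ne.symm hn.1.2, hcm a (by simp) c (by simp)⟩,
      hmem c (by simp), Ne.symm hn.2.1, hcm b (by simp) c (by simp)⟩, ?_⟩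
  rw [← hp]; simp [mul_assoc]

/-- The products of one, two and three members do not meet, given the excluded relations. -/
theorem fac_unique (hS : IsThreeTranspositionSet D)
    (h12 : ∀ a ∈ D, ∀ b ∈ perp D a, ∀ c ∈ perp D a, b * c = a → False)
    (h4 : ∀ L : List G, IsRel D L → L.length = 4 → False)
    (h5 : ∀ L : List G, IsRel D L → L.length = 5 → False)
    {m m' : ℕ} {x : G} (hm : 1 ≤ m) (hm' : m ≤ 3) (hn : 1 ≤ m') (hn' : m' ≤ 3) {l l' : List G}
    (h : Fac D m x l) (h' : Fac D m' x l') : m = m' := by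
  classical
  have n12 : ∀ {j : G} {l l' : List G}, Fac D 1 j l → Fac D 2 j l' → False := by
    intro j l l' h h'
    obtain ⟨a, rfl⟩ := List.length_eq_one_iff.1 h.2.1
    obtain ⟨b, c, rfl⟩ := List.length_eq_two.1 h'.2.1
    have hne : b ≠ c := by simpa using h'.1
    have hja : b * c = a := by
      have e1 : a = j := by simpa using h.2.2.2.2
      have e2 : b * c = j := by simpa using h'.2.2.2.2
      rw [e1, e2]
    have ha := h.2.2.1 a (by simp); have hb := h'.2.2.1 b (by simp); have hc := h'.2.2.1 c (by simp)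
    have hbc : Commute b c := h'.2.2.2.1 b (by simp) c (by simp)
    have h1 : ∀ d ∈ D, d ≠ 1 := fun d hd e => by
      have := hS.1 d hd
      rw [e, orderOf_one] at this
      omega
    have hba : b ≠ a := fun e => h1 c hc (mul_eq_left.1 (e ▸ hja))
    have hca : c ≠ a := fun e => h1 b hb (mul_eq_right.1 (e ▸ hja))
    exact h12 a ha b ⟨hb, hba, hja ▸ ((Commute.refl b).mul_left hbc.symm)⟩ c
      ⟨hc, hca, hja ▸ (hbc.mul_left (Commute.refl c))⟩ hja
  have n13 : ∀ {j : G} {l l' : List G}, Fac D 1 j l → Fac D 3 j l' → False := by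
    intro j l l' h h'
    obtain ⟨a, rfl⟩ := List.length_eq_one_iff.1 h.2.1
    by_cases ha : a ∈ l'
    · have h2 := h'.erase hS ha
      have hj : a = j := by simpa using h.2.2.2.2
      rw [← hj, tt_mul_self hS (h.2.2.1 a (by simp))] at h2
      obtain ⟨x, y, e⟩ := List.length_eq_two.1 h2.2.1
      rw [e] at h2
      obtain ⟨hn, -, hD, -, hp⟩ := h2
      simp only [List.prod_cons, List.prod_nil, mul_one] at hp
      have : x = y := by rw [eq_inv_of_mul_eq_one_left hp, tt_inv hS (hD y (by simp))]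
      simp [this] at hn
    · exact h4 _ (h.rel hS le_rfl h' (by simpa using ha)) (by rw [List.length_append, h.2.1, h'.2.1])
  have n23 : ∀ {j : G} {l l' : List G}, Fac D 2 j l → Fac D 3 j l' → False := by
    intro j l l' h h'
    by_cases hd : ∀ a ∈ l, a ∉ l'
    · exact h5 _ (h.rel hS le_rfl h' hd) (by rw [List.length_append, h.2.1, h'.2.1])
    · push Not at hd
      obtain ⟨a, ha, ha'⟩ := hd
      exact n12 (h.erase hS ha) (h'.erase hS ha')
  interval_cases m <;> interval_cases m'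
  all_goals first
    | rfl
    | exact (n12 h h').elim
    | exact (n12 h' h).elim
    | exact (n13 h h').elim
    | exact (n13 h' h).elim
    | exact (n23 h h').elim
    | exact (n23 h' h).elim

theorem fac_conj (hC : IsThreeTranspositionClass D) {k k' l₀ m₀ : ℕ} (hL : Local D k k' l₀ m₀)
    (hkk : 2 * k' + 2 < k) (hll : 2 * l₀ + 2 < k') {m : ℕ} (hm : 1 ≤ m) (hm' : m ≤ 3) {x y : G}
    {l l' : List G} (h : Fac D m x l) (h' : Fac D m y l') : IsConj x y := by
  rw [isConj_iff]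
  interval_cases m
  · obtain ⟨a, rfl⟩ := List.length_eq_one_iff.1 h.2.1
    obtain ⟨b, rfl⟩ := List.length_eq_one_iff.1 h'.2.1
    obtain ⟨g, hg⟩ := class_exists_conj hC (h.2.2.1 a (by simp)) (h'.2.2.1 b (by simp))
    exact ⟨g, by rw [← h.2.2.2.2, ← h'.2.2.2.2]; simpa using hg⟩
  · obtain ⟨a, b, rfl⟩ := List.length_eq_two.1 h.2.1
    obtain ⟨a', b', rfl⟩ := List.length_eq_two.1 h'.2.1
    obtain ⟨hn, -, hD, hc, hp⟩ := h
    obtain ⟨hn', -, hD', hc', hp'⟩ := h'
    obtain ⟨g, e1, e2⟩ := pair_trans hC hL hkk (hD a (by simp))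
      (b := b) ⟨hD b (by simp), Ne.symm (by simpa using hn), hc a (by simp) b (by simp)⟩
      (hD' a' (by simp)) (b' := b') ⟨hD' b' (by simp), Ne.symm (by simpa using hn'),
        hc' a' (by simp) b' (by simp)⟩
    refine ⟨g, ?_⟩
    rw [← hp, ← hp', ← e1, ← e2]
    simp only [List.prod_cons, List.prod_nil, mul_one]
    group
  · obtain ⟨a, b, c, rfl, ha, hb, hc, hp⟩ := h.three
    obtain ⟨a', b', c', rfl, ha', hb', hc', hp'⟩ := h'.three
    obtain ⟨g, e1, e2, e3⟩ := triple_trans hC hL hkk hll ha hb hc ha' hb' hc'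
    refine ⟨g, ?_⟩
    rw [← hp, ← hp', ← e1, ← e2, ← e3]
    group

theorem fac_order_two (hS : IsThreeTranspositionSet D)
    (huniq : ∀ {m m' : ℕ} {x : G}, 1 ≤ m → m ≤ 3 → 1 ≤ m' → m' ≤ 3 → ∀ {l l' : List G},
      Fac D m x l → Fac D m' x l' → m = m') {m : ℕ} (hm : 1 ≤ m) (hm' : m ≤ 3) {x : G} {l : List G}
    (h : Fac D m x l) : orderOf x = 2 := by
  refine orderOf_eq_prime (by rw [pow_two, ← h.2.2.2.2]; exact prod_sq hS h.2.2.1 h.2.2.2.1) fun e => ?_
  subst e
  interval_cases m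
  · obtain ⟨a, rfl⟩ := List.length_eq_one_iff.1 h.2.1
    have ha : a = 1 := by simpa using h.2.2.2.2
    have := hS.1 a (h.2.2.1 a (by simp))
    rw [ha, orderOf_one] at this
    omega
  · obtain ⟨a, b, rfl⟩ := List.length_eq_two.1 h.2.1
    have hab : a * b = 1 := by simpa using h.2.2.2.2
    have : a = b := by rw [eq_inv_of_mul_eq_one_left hab, tt_inv hS (h.2.2.1 b (by simp))]
    exact absurd this (by simpa using h.1)
  · obtain ⟨a, b, c, rfl, ha, hb, hc, hp⟩ := h.three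
    have h2 : Fac D 2 c [a, b] := by
      have e : a * b = c := by rw [eq_inv_of_mul_eq_one_left hp, tt_inv hS hc.1.1]
      rw [← e]
      exact fac_two ha hb
    have := huniq (m := 1) (m' := 2) le_rfl (by norm_num) (by norm_num) (by norm_num) (l := [c])
      ⟨by simp, rfl, by simp [hc.1.1], by simp, by simp⟩ h2
    omega

theorem exists_fac {k k' l₀ m₀ : ℕ} (hL : Local D k k' l₀ m₀) (hk : 0 < k) (hk' : 0 < k') {d : G}
    (hd : d ∈ D) {m : ℕ} (hm : 1 ≤ m) (hm' : m ≤ 3) : ∃ x l, Fac D m x l := by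
  obtain ⟨b, hb⟩ := nonempty_of_ncard (hL.size d hd) hk
  obtain ⟨c, hc⟩ := nonempty_of_ncard (hL.pair d hd b hb) hk'
  interval_cases m
  · exact ⟨d, [d], by simp, rfl, by simp [hd], by simp, by simp⟩
  · exact ⟨_, _, fac_two hd hb⟩
  · exact ⟨_, _, fac_three hd hb hc⟩

end Cfsg.Agent.Fischer3Srg
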