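import Cfsg.Agent.Lib.Fischer3Srg.Count

/-!
# A subgroup meeting the centralisers of the members in given subgroups

For a family of subgroups attached to the members, compatible on commuting pairs, the
transports along commuting edges define a subgroup transitive on the members.
-/

set_option autoImplicit false
set_option linter.unusedSectionVars false

namespace Cfsg.Agent.Fischer3Srg

open Cfsg ClassK Fischer3 Fischer3Rel

universe u

variable {G : Type u} [Group G] [Finite G] {D : Set G}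

/-- A family of subgroups of the centralisers of the members with the compatibilities needed. -/
structure Family (D : Set G) (U : G → Subgroup G) : Prop where
  conj : ∀ g : G, ∀ d ∈ D, ∀ x ∈ U d, g * x * g⁻¹ ∈ U (g * d * g⁻¹)
  cent : ∀ d ∈ D, ∀ x ∈ U d, Commute x d
  key : ∀ d ∈ D, ∀ b ∈ perp D d, ∀ x ∈ U b, Commute x d → x ∈ U d
  step : ∀ w ∈ D, ∀ p ∈ perp D w, ∀ q ∈ perp D w, ¬ Commute p q → p * q ∈ U w

/-- The members needed for the connections. -/
structure Linked (D : Set G) : Prop where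
  nonempty : ∀ d ∈ D, ∃ w : G, w ∈ perp D d
  far : ∀ d ∈ D, ∀ e ∈ D, ¬ Commute d e → ∃ b w : G,
    b ∈ perp D d ∧ b ∈ perp D e ∧ w ∈ perp D d ∧ w ∈ perp D e ∧ w ∈ perp D b
  three : ∀ d ∈ D, ∀ e ∈ D, ∀ f ∈ perp D e, ∃ w : G, w ∈ perp D d ∧ w ∈ perp D e ∧ w ∈ perp D f
  apart : ∀ d ∈ D, ∀ b ∈ perp D d, ∀ x ∈ perp D d ∩ perp D b, ∀ y ∈ perp D d ∩ perp D b,
    Commute x y → ∃ e ∈ D, e ∈ perp D x ∧ e ∈ perp D y ∧ ¬ Commute d e ∧ ¬ Commute b e
  bridge : ∀ d ∈ D, ∀ b ∈ perp D d, ∀ x ∈ perp D d ∩ perp D b, ∀ y ∈ perp D d ∩ perp D b,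
    ∃ z ∈ perp D d ∩ perp D b, Commute x z ∧ Commute z y

variable {U : G → Subgroup G}

/-- `s` carries `d` to `e` inside the subgroup of a member commuting with both. -/
def Tr (D : Set G) (U : G → Subgroup G) (d e s : G) : Prop :=
  s * d * s⁻¹ = e ∧ ∃ w ∈ perp D d ∩ perp D e, s ∈ U w

theorem conj_noncomm (hS : IsThreeTranspositionSet D) {d e : G} (hd : d ∈ D) (he : e ∈ D)
    (h : ¬ Commute d e) : d * e * d * (d * e)⁻¹ = e := by
  rw [mul_inv_rev, tt_inv hS hd, tt_inv hS he]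
  calc d * e * d * (e * d) = d * (e * d * e) * d := by simp only [mul_assoc]
    _ = d * (d * e * d) * d := by rw [← tt_braid hS hd he h]
    _ = e := by
      simp only [← mul_assoc, tt_mul_self hS hd, one_mul]
      rw [mul_assoc, tt_mul_self hS hd, mul_one]

section

variable (hG : IsThreeTranspositionGroup D) (hU : Family D U) (hK : Linked D)
include hG hU hK

theorem tr_exists {d e : G} (hd : d ∈ D) (he : e ∈ D) {w : G} (hwd : w ∈ perp D d)
    (hwe : w ∈ perp D e) : ∃ s ∈ U w, s * d * s⁻¹ = e := by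
  by_cases hde : d = e
  · exact ⟨1, one_mem _, by simp [hde]⟩
  have hdw := perp_symm hd hwd
  have hew := perp_symm he hwe
  by_cases hc : Commute d e
  · obtain ⟨f, hf, hfw, -, hdf, hef⟩ := hK.apart d hd e ⟨he, Ne.symm hde, hc⟩ w ⟨hwd, hwe⟩ w
      ⟨hwd, hwe⟩ (Commute.refl w)
    refine ⟨(f * e) * (d * f), mul_mem (hU.step w hwd.1 f hfw e hew fun h => hef h.symm)
      (hU.step w hwd.1 d hdw f hfw hdf), ?_⟩
    rw [show f * e * (d * f) * d * (f * e * (d * f))⁻¹ =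
      f * e * (d * f * d * (d * f)⁻¹) * (f * e)⁻¹ by group, conj_noncomm hG.1 hd hf hdf,
      conj_noncomm hG.1 hf he fun h => hef h.symm]
  · exact ⟨d * e, hU.step w hwd.1 d hdw e hew hc, conj_noncomm hG.1 hd he hc⟩

theorem tr_same {d e w s t : G} (hd : d ∈ D) (hwd : w ∈ perp D d) (hs : s ∈ U w) (ht : t ∈ U w)
    (es : s * d * s⁻¹ = e) (et : t * d * t⁻¹ = e) : s⁻¹ * t ∈ U d := by
  refine hU.key d hd w hwd _ (mul_mem (inv_mem hs) ht) (mul_inv_eq_iff_eq_mul.1 ?_)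
  rw [mul_inv_rev, inv_inv, show s⁻¹ * t * d * (t⁻¹ * s) = s⁻¹ * (t * d * t⁻¹) * s by group, et, ← es]
  group

theorem tr_unique {d e s t : G} (hd : d ∈ D) (he : e ∈ D) (hs : Tr D U d e s) (ht : Tr D U d e t) :
    s⁻¹ * t ∈ U d := by
  obtain ⟨es, w, ⟨hwd, hwe⟩, hs⟩ := hs
  obtain ⟨et, v, ⟨hvd, hve⟩, ht⟩ := ht
  have join : ∀ r, r * d * r⁻¹ = e → r ∈ U w → r ∈ U v → s⁻¹ * t ∈ U d := fun r er h1 h2 => by
    have := mul_mem (tr_same hG hU hK hd hwd hs h1 es er) (tr_same hG hU hK hd hvd h2 ht er et)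
    rwa [show s⁻¹ * r * (r⁻¹ * t) = s⁻¹ * t by group] at this
  by_cases hde : d = e
  · subst hde
    refine mul_mem (inv_mem (hU.key d hd w hwd s hs ?_)) (hU.key d hd v hvd t ht ?_)
    exacts [mul_inv_eq_iff_eq_mul.1 es, mul_inv_eq_iff_eq_mul.1 et]
  by_cases hc : Commute d e
  · have hb : e ∈ perp D d := ⟨he, Ne.symm hde, hc⟩
    have pair : ∀ x y : G, x ∈ perp D d → x ∈ perp D e → y ∈ perp D d → y ∈ perp D e → Commute x y →
        ∃ r, r * d * r⁻¹ = e ∧ r ∈ U x ∧ r ∈ U y := by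
      intro x y hxd hxe hyd hye hxy
      obtain ⟨f, hf, hfx, hfy, hdf, hef⟩ := hK.apart d hd e hb x ⟨hxd, hxe⟩ y ⟨hyd, hye⟩ hxy
      have m : ∀ z, z ∈ perp D d → z ∈ perp D e → f ∈ perp D z → (f * e) * (d * f) ∈ U z :=
        fun z h1 h2 h3 => mul_mem (hU.step z h1.1 f h3 e (perp_symm he h2) fun h => hef h.symm)
          (hU.step z h1.1 d (perp_symm hd h1) f h3 hdf)
      refine ⟨(f * e) * (d * f), ?_, m x hxd hxe hfx, m y hyd hye hfy⟩
      rw [show f * e * (d * f) * d * (f * e * (d * f))⁻¹ =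
        f * e * (d * f * d * (d * f)⁻¹) * (f * e)⁻¹ by group, conj_noncomm hG.1 hd hf hdf,
        conj_noncomm hG.1 hf he fun h => hef h.symm]
    obtain ⟨z, ⟨hzd, hze⟩, hwz, hzv⟩ := hK.bridge d hd e hb w ⟨hwd, hwe⟩ v ⟨hvd, hve⟩
    obtain ⟨r₁, e₁, r₁w, r₁z⟩ := pair w z hwd hwe hzd hze hwz
    obtain ⟨r₂, e₂, r₂z, r₂v⟩ := pair z v hzd hze hvd hve hzv
    have := mul_mem (mul_mem (tr_same hG hU hK hd hwd hs r₁w es e₁)
      (tr_same hG hU hK hd hzd r₁z r₂z e₁ e₂)) (tr_same hG hU hK hd hvd r₂v ht e₂ et)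
    rwa [show s⁻¹ * r₁ * (r₁⁻¹ * r₂) * (r₂⁻¹ * t) = s⁻¹ * t by group] at this
  · exact join (d * e) (conj_noncomm hG.1 hd he hc)
      (hU.step w hwd.1 d (perp_symm hd hwd) e (perp_symm he hwe) hc)
      (hU.step v hvd.1 d (perp_symm hd hvd) e (perp_symm he hve) hc)

/-- The subgroup transitive on the members meeting each centraliser in the given subgroup. -/
theorem exists_subgroup {d : G} (hd : d ∈ D) :
    ∃ M : Subgroup G, (∀ e ∈ D, U e ≤ M) ∧ (∀ g ∈ M, Commute g d → g ∈ U d) ∧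
      ∀ e ∈ D, ∃ g ∈ M, g * d * g⁻¹ = e := by
  classical
  let C : G → Prop := fun g => ∃ s, Tr D U d (g * d * g⁻¹) s ∧ s⁻¹ * g ∈ U d
  have hconj : ∀ {x u : G}, u ∈ U d → x * u * d * (x * u)⁻¹ = x * d * x⁻¹ := fun {x u} hu => by
    rw [show x * u * d * (x * u)⁻¹ = x * (u * d * u⁻¹) * x⁻¹ by group,
      conj_eq_of_commute (hU.cent d hd u hu)]
  -- one step along a commuting edge
  let R : G → G → Prop := fun x y => y * d * y⁻¹ ∈ perp D (x * d * x⁻¹) ∧
    ∃ w ∈ perp D (x * d * x⁻¹) ∩ perp D (y * d * y⁻¹), ∃ u ∈ U d, y * u * x⁻¹ ∈ U w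
  have hR : ∀ x y : G, C x → R x y → C y := by
    intro x y ⟨s, hs, hu0⟩ ⟨hef, w, ⟨hwe, hwf⟩, u, hu, ht⟩
    set e := x * d * x⁻¹ with hedef
    set f := y * d * y⁻¹ with hfdef
    have he : e ∈ D := hG.2.1 x d hd
    have hf : f ∈ D := hG.2.1 y d hd
    obtain ⟨v, hvd, hve, hvf⟩ := hK.three d hd e he f hef
    obtain ⟨s', hs', es'⟩ := tr_exists hG hU hK hd he hvd hve
    obtain ⟨t', ht', et'⟩ := tr_exists hG hU hK he hf hve hvf
    set t := y * u * x⁻¹
    have ete : t * e * t⁻¹ = f := by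
      rw [hedef, show t * (x * d * x⁻¹) * t⁻¹ = y * u * d * (y * u)⁻¹ by simp only [t]; group,
        hconj hu]
    have h1 : t'⁻¹ * t ∈ U e := tr_unique hG hU hK he hf ⟨et', v, ⟨hve, hvf⟩, ht'⟩
      ⟨ete, w, ⟨hwe, hwf⟩, ht⟩
    have h2 : x⁻¹ * (t'⁻¹ * t) * x ∈ U d := by
      have := hU.conj x⁻¹ e he _ h1
      rwa [hedef, show x⁻¹ * (x * d * x⁻¹) * x⁻¹⁻¹ = d by group, inv_inv] at this
    have h3 : s'⁻¹ * s ∈ U d := tr_unique hG hU hK hd he ⟨es', v, ⟨hvd, hve⟩, hs'⟩ hs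
    refine ⟨t' * s', ⟨?_, v, ⟨hvd, hvf⟩, mul_mem ht' hs'⟩, ?_⟩
    · rw [show t' * s' * d * (t' * s')⁻¹ = t' * (s' * d * s'⁻¹) * t'⁻¹ by group, es', et']
    · have := mul_mem (mul_mem (mul_mem h3 hu0) h2) (inv_mem hu)
      rwa [show s'⁻¹ * s * (s⁻¹ * x) * (x⁻¹ * (t'⁻¹ * t) * x) * u⁻¹ = (t' * s')⁻¹ * y by
        simp only [t]; group] at this
  have hsymm : ∀ x y, R x y → R y x := fun x y ⟨hef, w, hw, u, hu, h⟩ =>
    ⟨perp_symm (hG.2.1 x d hd) hef, w, ⟨hw.2, hw.1⟩, u⁻¹, inv_mem hu, by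
      simpa [mul_assoc] using inv_mem h⟩
  have hleft : ∀ g x y, R x y → R (g * x) (g * y) := fun g x y ⟨hef, w, hw, u, hu, h⟩ => by
    have e : ∀ z : G, g * z * d * (g * z)⁻¹ = g * (z * d * z⁻¹) * g⁻¹ := fun z => by group
    refine ⟨?_, g * w * g⁻¹, ⟨?_, ?_⟩, u, hu, ?_⟩
    · rw [e, e]; exact perp_conj hG g hef
    · rw [e]; exact perp_conj hG g hw.1
    · rw [e]; exact perp_conj hG g hw.2
    · have := hU.conj g w hw.1.1 _ h
      rwa [show g * (y * u * x⁻¹) * g⁻¹ = g * y * u * (g * x)⁻¹ by group] at this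
  have hright : ∀ x u : G, u ∈ U d → C x → C (x * u) := fun x u hu ⟨s, hs, h⟩ => by
    refine ⟨s, by rwa [hconj hu], ?_⟩
    have := mul_mem h hu
    rwa [mul_assoc] at this
  -- every element is reached from `1` by at most two steps
  have reach : ∀ x, C x → ∃ u ∈ U d, (x * u = 1 ∨ R 1 (x * u) ∨
      ∃ z, R 1 z ∧ R z (x * u)) := by
    intro x ⟨s, ⟨es, w, ⟨hwd, hwe⟩, hsw⟩, hu⟩
    refine ⟨(s⁻¹ * x)⁻¹, inv_mem hu, ?_⟩
    rw [show x * (s⁻¹ * x)⁻¹ = s by group]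
    set e := x * d * x⁻¹
    have he : e ∈ D := hG.2.1 x d hd
    by_cases hde : d = e
    · right; right
      obtain ⟨f, hf⟩ : ∃ f, f ∈ perp D d ∧ f ∈ perp D w := by
        obtain ⟨v, h1, -, h3⟩ := hK.three d hd d hd w hwd
        exact ⟨v, h1, h3⟩
      obtain ⟨r, hr, er⟩ := tr_exists hG hU hK hd hf.1.1 hwd (perp_symm hwd.1 hf.2)
      refine ⟨r, ⟨by simpa [er] using hf.1, w, ⟨by simpa using hwd, ?_⟩, 1, one_mem _, by simpa using hr⟩,
        ⟨?_, w, ⟨?_, ?_⟩, 1, one_mem _, by simpa using mul_mem hsw (inv_mem hr)⟩⟩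
      · rw [er]; exact perp_symm hwd.1 hf.2
      · rw [es, er, ← hde]; exact perp_symm hd hf.1
      · rw [er]; exact perp_symm hwd.1 hf.2
      · rw [es]; exact hwe
    by_cases hc : Commute d e
    · right; left
      refine ⟨by rw [es]; simpa using (show e ∈ perp D d from ⟨he, Ne.symm hde, hc⟩), w,
        ⟨by simpa using hwd, by rw [es]; exact hwe⟩, 1, one_mem _, by simpa using hsw⟩
    · right; right
      obtain ⟨b, v, hbd, hbe, hvd, hve, hvb⟩ := hK.far d hd e he hc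
      obtain ⟨r, hr, er⟩ := tr_exists hG hU hK hd hbd.1 hvd hvb
      obtain ⟨t, ht, et⟩ := tr_exists hG hU hK hd he hvd hve
      have hts : t⁻¹ * s ∈ U d := tr_unique hG hU hK hd he ⟨et, v, ⟨hvd, hve⟩, ht⟩
        ⟨es, w, ⟨hwd, hwe⟩, hsw⟩
      refine ⟨r, ⟨by simpa [er] using hbd, v, ⟨by simpa using hvd, by rw [er]; exact hvb⟩, 1,
        one_mem _, by simpa using hr⟩, ⟨?_, v, ⟨?_, ?_⟩, (t⁻¹ * s)⁻¹, inv_mem hts, ?_⟩⟩
      · rw [es, er]; exact perp_symm he hbe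
      · rw [er]; exact hvb
      · rw [es]; exact hve
      · rw [show s * (t⁻¹ * s)⁻¹ * r⁻¹ = t * r⁻¹ by group]
        exact mul_mem ht (inv_mem hr)
  -- left translation by one element with one value inside
  have htrans : ∀ g x, C x → C (g * x) → ∀ y, C y → C (g * y) := by
    intro g x hx hgx y hy
    have h1 : C g := by
      obtain ⟨u, hu, h⟩ := reach x hx
      have hgxu : C (g * (x * u)) := by rw [← mul_assoc]; exact hright _ _ hu hgx
      rcases h with e | e | ⟨z, e₁, e₂⟩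
      · simpa [e] using hgxu
      · simpa using hR _ _ hgxu (hleft g _ _ (hsymm _ _ e))
      · simpa using hR _ _ (hR _ _ hgxu (hleft g _ _ (hsymm _ _ e₂))) (hleft g _ _ (hsymm _ _ e₁))
    obtain ⟨u, hu, h⟩ := reach y hy
    have h2 : C (g * (y * u)) := by
      rcases h with e | e | ⟨z, e₁, e₂⟩
      · simpa [e] using h1
      · exact hR g _ h1 (by simpa using hleft g _ _ e)
      · exact hR _ _ (hR g _ h1 (by simpa using hleft g _ _ e₁)) (hleft g _ _ e₂)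
    have := hright _ _ (inv_mem hu) h2
    rwa [show g * (y * u) * u⁻¹ = g * y by group] at this
  have hone : C 1 := by
    obtain ⟨w, hw⟩ := hK.nonempty d hd
    exact ⟨1, ⟨by simp, w, ⟨hw, by simpa using hw⟩, one_mem _⟩, by simp⟩
  have hclosed : ∀ g h, C g → C h → C (g * h) := fun g h hg hh =>
    htrans g 1 hone (by simpa using hg) h hh
  have hpow : ∀ g, C g → ∀ n : ℕ, C (g ^ n) := fun g hg n => by
    induction n with
    | zero => simpa using hone
    | succ n ih => rw [pow_succ]; exact hclosed _ _ ih hg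
  refine ⟨{ carrier := {g | C g}
            one_mem' := hone
            mul_mem' := fun hg hh => hclosed _ _ hg hh
            inv_mem' := fun {g} hg => by
              have := hpow g hg (orderOf g - 1)
              rwa [show g ^ (orderOf g - 1) = g⁻¹ from eq_inv_of_mul_eq_one_left (by
                rw [← pow_succ, Nat.sub_add_cancel (orderOf_pos g), pow_orderOf_eq_one])] at this },
    ?_, ?_, ?_⟩
  · intro e he z hz
    obtain ⟨w, hwd, hwe⟩ : ∃ w, w ∈ perp D d ∧ w ∈ perp D e := by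
      by_cases hc : Commute d e
      · by_cases hde : d = e
        · obtain ⟨s, ⟨-, w, hw, -⟩, -⟩ := hone
          exact ⟨w, hw.1, hde ▸ hw.1⟩
        · obtain ⟨w, h1, -, h3⟩ := hK.three d hd d hd e ⟨he, Ne.symm hde, hc⟩
          exact ⟨w, h1, h3⟩
      · obtain ⟨b, v, h1, h2, -⟩ := hK.far d hd e he hc
        exact ⟨b, h1, h2⟩
    obtain ⟨s, hs, es⟩ := tr_exists hG hU hK hd he hwd hwe
    have hCs : C s := ⟨s, ⟨rfl, w, ⟨hwd, by rw [es]; exact hwe⟩, hs⟩, by simp⟩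
    have hzs : C (z * s) := by
      have h1 : s⁻¹ * z * s ∈ U d := by
        have := hU.conj s⁻¹ e he z hz
        rwa [inv_inv, ← es, show s⁻¹ * (s * d * s⁻¹) * s = d by group] at this
      have := hright s _ h1 hCs
      rwa [show s * (s⁻¹ * z * s) = z * s by group] at this
    have := htrans z s hCs hzs 1 hone
    rwa [mul_one] at this
  · intro g ⟨s, hs, h⟩ hc
    rw [conj_eq_of_commute hc] at hs
    have hs1 : Tr D U d d 1 := ⟨by simp, by
      obtain ⟨w, hw, -⟩ := hs.2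
      exact ⟨w, hw, one_mem _⟩⟩
    have := mul_mem (tr_unique hG hU hK hd hd hs1 hs) h
    simpa using this
  · intro e he
    by_cases hde : d = e
    · exact ⟨1, hone, by simp [hde]⟩
    · obtain ⟨w, hwd, hwe⟩ : ∃ w, w ∈ perp D d ∧ w ∈ perp D e := by
        by_cases hc : Commute d e
        · obtain ⟨w, h1, -, h3⟩ := hK.three d hd d hd e ⟨he, Ne.symm hde, hc⟩
          exact ⟨w, h1, h3⟩
        · obtain ⟨b, v, h1, h2, -⟩ := hK.far d hd e he hc
          exact ⟨b, h1, h2⟩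
      obtain ⟨s, hs, es⟩ := tr_exists hG hU hK hd he hwd hwe
      exact ⟨s, ⟨s, ⟨rfl, w, ⟨hwd, by rw [es]; exact hwe⟩, hs⟩, by simp⟩, es⟩

end

end Cfsg.Agent.Fischer3Srg
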