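import Cfsg.Agent.Lib.Fischer3Srg.Lift

/-!
# The members needed for the connections exist when the parameters are positive
-/

set_option autoImplicit false
set_option linter.unusedSectionVars false

namespace Cfsg.Agent.Fischer3Srg

open Cfsg ClassK Fischer3 Fischer3Rel

universe u

variable {G : Type u} [Group G] [Finite G] {D : Set G}

theorem nonempty_of_ncard {α : Type*} {s : Set α} {n : ℕ} (h : s.ncard = n) (hn : 0 < n) :
    ∃ x, x ∈ s := Set.nonempty_of_ncard_ne_zero (by omega)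

theorem linked_of_local {k k' l' m' μ : ℕ} (hL : Local D k k' l' m')
    (hμ : ∀ d ∈ D, ∀ c ∈ D, ¬ Commute d c → (perp D d ∩ perp D c).ncard = μ)
    (hμ0 : 0 < μ) (hμk : μ < k) (hk' : 0 < k') (hl' : 0 < l') (hm' : 0 < m') (hlt : m' < k')
    (hz : ((k : ℤ) - μ) *
        (μ * k' + μ * m' * l' + μ * (μ - 1 - m') * m' - μ * m' * m') -
        ((μ : ℤ) * k' - μ * m') ^ 2 = 0)
    (hkk : 2 * k' + 2 < k) (hll : 2 * l' + 2 < k')
    (hq : ∀ d ∈ D, ∀ b ∈ perp D d, ∀ x ∈ perp D d ∩ perp D b, ∀ y ∈ perp D d ∩ perp D b,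
      ¬ Commute x y → ∃ z, z ∈ perp D d ∩ perp D b ∩ (perp D x ∩ perp D y)) :
    Linked D := by
  refine ⟨fun d hd => nonempty_of_ncard (hL.size d hd) (by omega), fun d hd e he hn => ?_,
    fun d hd e he f hf => ?_, fun d hd b hb x hx y hy hxy => ?_, fun d hd b hb x hx y hy => ?_⟩
  · obtain ⟨b, hb⟩ := nonempty_of_ncard (hμ d hd e he hn) hμ0
    obtain ⟨w, hw⟩ := nonempty_of_ncard
      (hL.mix b hb.1.1 d (perp_symm hd hb.1) e (perp_symm he hb.2) hn) hm'
    exact ⟨b, w, hb.1, hb.2, hw.1.2, hw.2, hw.1.1⟩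
  · by_cases hde : d = e
    · obtain ⟨w, hw⟩ := nonempty_of_ncard (hL.pair e he f hf) hk'
      exact ⟨w, hde ▸ hw.1, hw.1, hw.2⟩
    by_cases hdf : d = f
    · obtain ⟨w, hw⟩ := nonempty_of_ncard (hL.pair e he f hf) hk'
      exact ⟨w, hdf ▸ hw.2, hw.1, hw.2⟩
    by_cases c₁ : Commute d e <;> by_cases c₂ : Commute d f
    · obtain ⟨w, hw⟩ := nonempty_of_ncard
        (hL.trip d hd e ⟨he, Ne.symm hde, c₁⟩ f ⟨⟨hf.1, Ne.symm hdf, c₂⟩, hf⟩) hl'
      exact ⟨w, hw.1.1, hw.1.2, hw.2⟩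
    · obtain ⟨w, hw⟩ := nonempty_of_ncard (hL.mix e he d ⟨hd, hde, c₁.symm⟩ f hf c₂) hm'
      exact ⟨w, hw.1.2, hw.1.1, hw.2⟩
    · obtain ⟨w, hw⟩ := nonempty_of_ncard
        (hL.mix f hf.1 d ⟨hd, hdf, c₂.symm⟩ e (perp_symm he hf) c₁) hm'
      exact ⟨w, hw.1.2, hw.2, hw.1.1⟩
    · have h := (moments hL hμ hf.1 hd fun h => c₂ h.symm).2 hz hμk e (perp_symm he hf)
        fun h => c₁ h.2.2
      have hpos : (0 : ℤ) < μ * k' - μ * m' := by
        rw [← mul_sub]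
        exact mul_pos (by exact_mod_cast hμ0) (sub_pos.2 (by exact_mod_cast hlt))
      obtain ⟨w, hw⟩ : ∃ w, w ∈ perp D f ∩ perp D d ∩ perp D e := by
        by_contra hno
        rw [show perp D f ∩ perp D d ∩ perp D e = ∅ from Set.eq_empty_iff_forall_notMem.2
          fun w hw => hno ⟨w, hw⟩, Set.ncard_empty, Nat.cast_zero, mul_zero] at h
        omega
      exact ⟨w, hw.1.2, hw.2, hw.1.1⟩
  · have hxd : d ∈ perp D x := perp_symm hd hx.1
    have hxb : b ∈ perp D x := perp_symm hb.1 hx.2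
    have hyd : d ∈ perp D y := perp_symm hd hy.1
    have hyb : b ∈ perp D y := perp_symm hb.1 hy.2
    set P := perp D x ∩ perp D y
    have hbad : ∀ n K : ℕ, P.ncard = K → 2 * n + 2 < K →
        (P ∩ perp D d).ncard = n → (P ∩ perp D b).ncard = n →
        ∃ e, e ∈ P ∧ ¬ Commute d e ∧ ¬ Commute b e := by
      intro n K hK hlt hd' hb'
      by_contra! hno
      have hsub : P ⊆ P ∩ perp D d ∪ P ∩ perp D b ∪ {d, b} := fun e he => by
        by_cases e₁ : e = d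
        · exact Or.inr (Or.inl e₁)
        by_cases e₂ : e = b
        · exact Or.inr (Or.inr e₂)
        by_cases h : Commute d e
        · exact Or.inl (Or.inl ⟨he, he.1.1, e₁, h⟩)
        · exact Or.inl (Or.inr ⟨he, he.1.1, e₂, hno e he h⟩)
      have h1 := Set.ncard_le_ncard hsub
      have h2 := (Set.ncard_union_le (P ∩ perp D d ∪ P ∩ perp D b) {d, b})
      have h3 := Set.ncard_union_le (P ∩ perp D d) (P ∩ perp D b)
      have h4 : ({d, b} : Set G).ncard ≤ 2 := by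
        refine (Set.ncard_insert_le d {b}).trans ?_
        rw [Set.ncard_singleton]
      omega
    by_cases e₁ : x = y
    · subst e₁
      have hP : P = perp D x := Set.inter_self _
      obtain ⟨e, he, h₁, h₂⟩ := hbad k' k (by rw [hP]; exact hL.size x hx.1.1) hkk
        (by rw [hP]; exact hL.pair x hx.1.1 d hxd) (by rw [hP]; exact hL.pair x hx.1.1 b hxb)
      exact ⟨e, he.1.1, he.1, he.2, h₁, h₂⟩
    · have hy' : y ∈ perp D x := ⟨hy.1.1, Ne.symm e₁, hxy⟩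
      obtain ⟨e, he, h₁, h₂⟩ := hbad l' k' (hL.pair x hx.1.1 y hy') hll
        (hL.trip x hx.1.1 y hy' d ⟨hxd, hyd⟩) (hL.trip x hx.1.1 y hy' b ⟨hxb, hyb⟩)
      exact ⟨e, he.1.1, he.1, he.2, h₁, h₂⟩
  · by_cases c : Commute x y
    · exact ⟨x, hx, Commute.refl x, c⟩
    · obtain ⟨z, hz₁, hz₂, hz₃⟩ := hq d hd b hb x hx y hy c
      exact ⟨z, hz₁, hz₂.2.2, hz₃.2.2.symm⟩

end Cfsg.Agent.Fischer3Srg
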