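import Cfsg.Agent.Lib.Fischer3Srg.Rank

/-!
# Transitivity on commuting pairs and triples, and classes
-/

set_option autoImplicit false
set_option linter.unusedSectionVars false

namespace Cfsg.Agent.Fischer3Srg

open Cfsg ClassK Fischer3 Fischer3Rel

universe u

variable {G : Type u} [Group G] [Finite G] {D : Set G}

/-- A set of members with few commuting neighbours each is one orbit of the group that it generates. -/
theorem transitive_of_few (hS : IsThreeTranspositionSet D) {S : Set G} (hSD : S ⊆ D) {N n : ℕ}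
    (hN : S.ncard = N) (hn : ∀ x ∈ S, (S ∩ perp D x).ncard = n) (hlt : 2 * n + 2 < N) {x y : G}
    (hx : x ∈ S) (hy : y ∈ S) : ∃ g ∈ Subgroup.closure S, g * x * g⁻¹ = y := by
  have hnc : ∀ x ∈ S, ∀ y ∈ S, ¬ Commute x y → ∃ g ∈ Subgroup.closure S, g * x * g⁻¹ = y :=
    fun x hx y hy h => ⟨x * y, mul_mem (Subgroup.subset_closure hx) (Subgroup.subset_closure hy),
      conj_noncomm hS (hSD hx) (hSD hy) h⟩
  by_cases hxy : Commute x y
  · obtain ⟨z, hz, h1, h2⟩ : ∃ z ∈ S, ¬ Commute x z ∧ ¬ Commute z y := by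
      by_contra! h
      have hsub : S ⊆ S ∩ perp D x ∪ S ∩ perp D y ∪ {x, y} := fun z hz => by
        by_cases e₁ : z = x
        · exact Or.inr (Or.inl e₁)
        by_cases e₂ : z = y
        · exact Or.inr (Or.inr e₂)
        by_cases hc : Commute x z
        · exact Or.inl (Or.inl ⟨hz, hSD hz, e₁, hc⟩)
        · exact Or.inl (Or.inr ⟨hz, hSD hz, e₂, (h z hz hc).symm⟩)
      have h1 := Set.ncard_le_ncard hsub
      have h2 := Set.ncard_union_le (S ∩ perp D x ∪ S ∩ perp D y) {x, y}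
      have h3 := Set.ncard_union_le (S ∩ perp D x) (S ∩ perp D y)
      have h4 : ({x, y} : Set G).ncard ≤ 2 :=
        (Set.ncard_insert_le x {y}).trans (by rw [Set.ncard_singleton])
      rw [hn x hx, hn y hy] at h3
      omega
    obtain ⟨g₁, hg₁, e₁⟩ := hnc x hx z hz h1
    obtain ⟨g₂, hg₂, e₂⟩ := hnc z hz y hy h2
    exact ⟨g₂ * g₁, mul_mem hg₂ hg₁, by rw [← e₂, ← e₁]; group⟩
  · exact hnc x hx y hy hxy

theorem pair_trans (hC : IsThreeTranspositionClass D) {k k' l' m' : ℕ} (hB : Local D k k' l' m')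
    (hkk : 2 * k' + 2 < k) {a b a' b' : G} (ha : a ∈ D) (hb : b ∈ perp D a) (ha' : a' ∈ D)
    (hb' : b' ∈ perp D a') : ∃ g : G, g * a * g⁻¹ = a' ∧ g * b * g⁻¹ = b' := by
  obtain ⟨g, hg⟩ := class_exists_conj hC ha ha'
  have h1 : g * b * g⁻¹ ∈ perp D a' := hg ▸ perp_conj (class_group hC) g hb
  obtain ⟨h, hh, e⟩ := transitive_of_few hC.1 (S := perp D a') (fun _ h => h.1) (hB.size a' ha')
    (fun x hx => hB.pair a' ha' x hx) hkk h1 hb'
  refine ⟨h * g, ?_, by rw [← e]; group⟩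
  rw [show h * g * a * (h * g)⁻¹ = h * (g * a * g⁻¹) * h⁻¹ by group, hg,
    conj_eq_of_commute (commute_of_mem_H hh)]

theorem triple_trans (hC : IsThreeTranspositionClass D) {k k' l' m' : ℕ} (hB : Local D k k' l' m')
    (hkk : 2 * k' + 2 < k) (hll : 2 * l' + 2 < k') {a b c a' b' c' : G} (ha : a ∈ D)
    (hb : b ∈ perp D a) (hc : c ∈ perp D a ∩ perp D b) (ha' : a' ∈ D) (hb' : b' ∈ perp D a')
    (hc' : c' ∈ perp D a' ∩ perp D b') :
    ∃ g : G, g * a * g⁻¹ = a' ∧ g * b * g⁻¹ = b' ∧ g * c * g⁻¹ = c' := by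
  have hG := class_group hC
  obtain ⟨g, e1, e2⟩ := pair_trans hC hB hkk ha hb ha' hb'
  have h1 : g * c * g⁻¹ ∈ perp D a' ∩ perp D b' :=
    ⟨e1 ▸ perp_conj hG g hc.1, e2 ▸ perp_conj hG g hc.2⟩
  obtain ⟨h, hh, e⟩ := transitive_of_few hC.1 (S := perp D a' ∩ perp D b') (fun _ h => h.1.1)
    (hB.pair a' ha' b' hb') (fun x hx => hB.trip a' ha' b' hb' x hx) hll h1 hc'
  refine ⟨h * g, ?_, ?_, by rw [← e]; group⟩
  · rw [show h * g * a * (h * g)⁻¹ = h * (g * a * g⁻¹) * h⁻¹ by group, e1,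
      conj_eq_of_commute (commute_of_mem_H (Subgroup.closure_mono Set.inter_subset_left hh))]
  · rw [show h * g * b * (h * g)⁻¹ = h * (g * b * g⁻¹) * h⁻¹ by group, e2,
      conj_eq_of_commute (commute_of_mem_H (Subgroup.closure_mono Set.inter_subset_right hh))]

/-- The order of the group from a class and a centraliser. -/
theorem card_class_mul (j : G) :
    Nat.card G = (conjugatesOf j).ncard * Nat.card ↥(Subgroup.centralizer ({j} : Set G)) := by
  have horb : MulAction.orbit (ConjAct G) j = conjugatesOf j := by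
    ext x
    rw [show x ∈ conjugatesOf j ↔ IsConj j x from Iff.rfl, isConj_iff]
    simp only [MulAction.mem_orbit_iff, ConjAct.smul_def]
    exact ⟨fun ⟨g, e⟩ => ⟨_, e⟩, fun ⟨g, e⟩ => ⟨ConjAct.toConjAct g, by simpa using e⟩⟩
  rw [← Nat.card_coe_set_eq (conjugatesOf j), ← horb,
    ← Nat.card_congr (MulAction.orbitEquivQuotientStabilizer (ConjAct G) j).symm]
  rw [Subgroup.card_eq_card_quotient_mul_card_subgroup (MulAction.stabilizer (ConjAct G) j)
    (α := ConjAct G) |> fun e => (Nat.card_congr (ConjAct.ofConjAct (G := G)).toEquiv).symm.trans e]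
  congr 1
  refine Nat.card_congr (Equiv.subtypeEquiv (ConjAct.ofConjAct (G := G)).toEquiv fun g => ?_)
  rw [MulAction.mem_stabilizer_iff, Subgroup.mem_centralizer_singleton_iff, ConjAct.smul_def]
  exact mul_inv_eq_iff_eq_mul

end Cfsg.Agent.Fischer3Srg
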