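import Cfsg.Agent.Lib.Fischer3Srg.Common

/-!
# Primitivity of the class in the perp of a member
-/

set_option autoImplicit false
set_option linter.unusedSectionVars false
set_option linter.style.haveILetI false

namespace Cfsg.Agent.Fischer3Srg

open Cfsg ClassK Fischer3 Fischer3Rel

universe u

variable {G : Type u} [Group G] [Finite G] {D : Set G}

theorem eq_one_of_cube {x : G} {p : ℕ} (hp : p ≠ 3) [Fact p.Prime] {P : Subgroup G}
    (hP : IsPGroup p P) (hx : x ∈ P) (h3 : x ^ 3 = 1) : x = 1 := by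
  obtain ⟨k, hk⟩ := hP ⟨x, hx⟩
  have h1 : x ^ p ^ k = 1 := congrArg Subtype.val hk
  have hco : Nat.Coprime (p ^ k) 3 := Nat.Coprime.pow_left k
    ((Nat.coprime_primes (Fact.out : p.Prime) Nat.prime_three).2 hp)
  have := pow_gcd_eq_one.2 ⟨h1, h3⟩
  rwa [hco.gcd_eq_one, pow_one] at this

theorem eq_one_of_sq {x : G} {p : ℕ} (hp : p ≠ 2) [Fact p.Prime] {P : Subgroup G}
    (hP : IsPGroup p P) (hx : x ∈ P) (h2 : x ^ 2 = 1) : x = 1 := by
  obtain ⟨k, hk⟩ := hP ⟨x, hx⟩
  have h1 : x ^ p ^ k = 1 := congrArg Subtype.val hk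
  have hco : Nat.Coprime (p ^ k) 2 := Nat.Coprime.pow_left k
    ((Nat.coprime_primes (Fact.out : p.Prime) Nat.prime_two).2 hp)
  have := pow_gcd_eq_one.2 ⟨h1, h2⟩
  rwa [hco.gcd_eq_one, pow_one] at this

/-- A simple section of a perp excludes normal 2- and 3-subgroups. -/
theorem core_bot (hC : IsThreeTranspositionClass D) (hZ : Subgroup.center G = ⊥) {a : G}
    (ha : a ∈ D) (hs : IsSimpleGroup (↥(H D a) ⧸ Subgroup.center ↥(H D a))) {p : ℕ}
    (hp : p = 2 ∨ p = 3) : pCore p G = ⊥ := by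
  haveI : Fact p.Prime := ⟨by rcases hp with rfl | rfl <;> norm_num⟩
  have hG := class_group hC
  have hS := hC.1
  set P := pCore p G with hPdef
  haveI hPn : P.Normal := Basics.pCore_normal p
  have hPp : IsPGroup p P := Basics.pCore_isPGroup p
  by_contra hne
  -- the conjugate by an element of the core commutes with the perp
  have hA : ∀ x ∈ D, ∀ g ∈ P, ∀ y ∈ perp D x, Commute y (g * x * g⁻¹) := by
    intro x hx g hg y hy
    set x' := g * x * g⁻¹
    have hx' : x' ∈ D := hG.2.1 g x hx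
    have hxx : x * x' ∈ P := by
      rw [show x * x' = (x * g * x⁻¹) * g⁻¹ by
        simp only [x', tt_inv hS hx]; simp only [← mul_assoc]]
      exact mul_mem (hPn.conj_mem g hg x) (inv_mem hg)
    by_contra hn
    have h3 : (y * x') ^ 3 = 1 := tt_noncommute_cube hS hy.1 hx' hn
    have h1 : y * x' * (y * x') ∈ P := by
      have h := hPn.conj_mem _ (mul_mem (hPn.conj_mem _ hxx y) (inv_mem hxx)) x
      have e : x * (y * (x * x') * y⁻¹ * (x * x')⁻¹) * x⁻¹ = y * x' * (y * x') := by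
        rw [mul_inv_rev, tt_inv hS hx, tt_inv hS hx', tt_inv hS hy.1,
          show x * (y * (x * x') * y * (x' * x)) * x = (x * y * x) * x' * y * x' * (x * x) by group,
          show x * y * x = y by rw [hy.2.2.eq, mul_assoc, tt_mul_self hS hx, mul_one],
          tt_mul_self hS hx, mul_one]
        group
      rwa [e] at h
    have h2 : y * x' ∈ P := by
      have h := pow_mem h1 2
      rwa [← pow_two, ← pow_mul, show 2 * 2 = 3 + 1 by norm_num, pow_succ, h3, one_mul] at h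
    rcases hp with rfl | rfl
    · have e := eq_one_of_cube (by norm_num) hPp h2 h3
      exact hn (by rw [eq_inv_of_mul_eq_one_left e, tt_inv hS hx'])
    · have h4 : x * y ∈ P := by
        have := mul_mem hxx (inv_mem h2)
        rwa [mul_inv_rev, tt_inv hS hx', tt_inv hS hy.1, ← mul_assoc, mul_assoc x, tt_mul_self hS hx',
          mul_one] at this
      have e := eq_one_of_sq (by norm_num) hPp h4 ((tt_commute_iff hS hx hy.1).1 hy.2.2)
      exact hy.2.1 (by rw [eq_inv_of_mul_eq_one_left e, tt_inv hS hy.1])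
  -- a noncentral member of the perp of `a`
  obtain ⟨⟨q, hq, r, hr, hqr⟩, -⟩ := simple_quot hS hs
  haveI := hs
  set π := QuotientGroup.mk' (Subgroup.center ↥(H D a))
  have hcen : ∀ z : ↥(H D a), (z : G) ∈ P → z ∈ Subgroup.center ↥(H D a) := by
    intro z hz
    rcases Subgroup.Normal.eq_bot_or_eq_top
        ((hPn.subgroupOf (H D a)).map π (QuotientGroup.mk'_surjective _)) with e | e
    · exact (QuotientGroup.eq_one_iff z).1 (Subgroup.mem_bot.1
        (e.le (Subgroup.mem_map_of_mem π (show z ∈ P.subgroupOf (H D a) from hz))))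
    · exfalso
      have hT : IsPGroup p ((P.subgroupOf (H D a)).map π) :=
        (hPp.comap_of_injective _ (H D a).subtype_injective).map π
      set q' : ↥(H D a) := ⟨q, Subgroup.subset_closure hq⟩
      set r' : ↥(H D a) := ⟨r, Subgroup.subset_closure hr⟩
      have hq2 : q' * q' = 1 := Subtype.ext (tt_mul_self hS hq.1)
      have hfin : π q' = π r' := by
        rcases hp with rfl | rfl
        · have h := eq_one_of_cube (by norm_num) hT (e.ge (Subgroup.mem_top (π (q' * r'))))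
            (by rw [← map_pow, show (q' * r') ^ 3 = 1 from Subtype.ext (by
              simpa [q', r'] using tt_noncommute_cube hS hq.1 hr.1 hqr), map_one])
          rw [map_mul] at h
          rw [eq_inv_of_mul_eq_one_left h, ← map_inv,
            show r'⁻¹ = r' from Subtype.ext (tt_inv hS hr.1)]
        · have h1 := eq_one_of_sq (by norm_num) hT (e.ge (Subgroup.mem_top (π q')))
            (by rw [pow_two, ← map_mul, hq2, map_one])
          have h2 := eq_one_of_sq (by norm_num) hT (e.ge (Subgroup.mem_top (π r')))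
            (by rw [pow_two, ← map_mul, show r' * r' = 1 from Subtype.ext (tt_mul_self hS hr.1), map_one])
          rw [h1, h2]
      have hc := commute_of_mem_center (QuotientGroup.eq.1 hfin) hq
      have e' : ((q'⁻¹ * r' : ↥(H D a)) : G) = q * r := by simp [q', r', tt_inv hS hq.1]
      rw [e'] at hc
      have h := hc.eq
      rw [mul_assoc] at h
      exact hqr (mul_left_cancel h).symm
  obtain ⟨g, hg, hgq⟩ : ∃ g ∈ P, g * q * g⁻¹ ≠ q := by
    by_contra! hfix
    refine hne ((Subgroup.eq_bot_iff_forall _).2 fun g hg => ?_)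
    have hle : Subgroup.closure D ≤ Subgroup.centralizer {g} := by
      refine (Subgroup.closure_le _).2 fun x hx => Subgroup.mem_centralizer_singleton_iff.2 ?_
      obtain ⟨k, hk⟩ := class_exists_conj hC hq.1 hx
      have h := hfix (k⁻¹ * g * k) (by simpa using hPn.conj_mem g hg k⁻¹)
      have h' : g * x * g⁻¹ = x := by
        rw [← hk]
        calc g * (k * q * k⁻¹) * g⁻¹ = k * (k⁻¹ * g * k * q * (k⁻¹ * g * k)⁻¹) * k⁻¹ := by group
          _ = _ := by rw [h]
      exact (mul_inv_eq_iff_eq_mul.1 h').symm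
    have : g ∈ Subgroup.center G := Subgroup.mem_center_iff.2 fun y =>
      Subgroup.mem_centralizer_singleton_iff.1 (hle (hG.2.2 ▸ Subgroup.mem_top y))
    rwa [hZ, Subgroup.mem_bot] at this
  have hq' : g * q * g⁻¹ ∈ D := hG.2.1 g q hq.1
  by_cases hqa : g * q * g⁻¹ = a
  · refine hqr (Commute.symm ?_)
    have h := hA a ha g⁻¹ (inv_mem hg) r hr
    rwa [show g⁻¹ * a * g⁻¹⁻¹ = q by rw [← hqa]; group] at h
  · have hperp : g * q * g⁻¹ ∈ perp D a :=
      ⟨hq', hqa, hA q hq.1 g hg a (perp_symm ha hq)⟩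
    have hmem : q * (g * q * g⁻¹) ∈ P := by
      rw [show q * (g * q * g⁻¹) = (q * g * q⁻¹) * g⁻¹ by
        simp only [tt_inv hS hq.1]; simp only [← mul_assoc]]
      exact mul_mem (hPn.conj_mem g hg q) (inv_mem hg)
    exact hqr (commute_of_pair hS hq.1 hq' hr.1 (Ne.symm hgq)
      (commute_of_mem_center (hcen ⟨_, mul_mem (Subgroup.subset_closure hq)
        (Subgroup.subset_closure hperp)⟩ hmem) hr).symm).symm

/-- Noncommuting pairs are conjugate. -/
theorem pair_conj (hS : Fischer.Setup D) (hG : IsThreeTranspositionGroup D) {a b d c : G}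
    (ha : a ∈ D) (hb : b ∈ D) (hab : ¬ Commute a b) (hd : d ∈ D) (hc : c ∈ D) (hdc : ¬ Commute d c) :
    ∃ g : G, g * a * g⁻¹ = d ∧ g * b * g⁻¹ = c := by
  obtain ⟨g, hg⟩ := Fischer.exists_conj hS ha hd
  obtain ⟨g', hg'd, hg'⟩ := (Fischer.rank_three hS hd).2 (g * b * g⁻¹) (hG.2.1 g b hb) c hc
    (hg ▸ fun e => hab ((commute_conj_iff g _ _).1 e)) hdc
  exact ⟨g' * g, by rw [show g' * g * a * (g' * g)⁻¹ = g' * (g * a * g⁻¹) * g'⁻¹ by group, hg,
    conj_eq_of_commute hg'd], by rw [← hg']; group⟩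

/-- Every member of a common perp commutes with another one, once this happens for one pair. -/
theorem common_partner (hG : IsThreeTranspositionGroup D) (hS : Fischer.Setup D) {a b w v : G}
    (ha : a ∈ D) (hb : b ∈ D) (hab : ¬ Commute a b) (hw : w ∈ perp D a ∩ perp D b)
    (hv : v ∈ perp D a ∩ perp D b) (hwv : v ∈ perp D w) {y z x : G} (hy : y ∈ D) (hz : z ∈ D)
    (hyz : ¬ Commute y z) (hx : x ∈ perp D y ∩ perp D z) :
    ∃ u ∈ perp D y ∩ perp D z, u ∈ perp D x := by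
  obtain ⟨g, hga, hgb⟩ := pair_conj hS hG ha hb hab hy hz hyz
  have hmap : ∀ s ∈ perp D a ∩ perp D b, g * s * g⁻¹ ∈ perp D y ∩ perp D z := fun s hs =>
    ⟨hga ▸ perp_conj hG g hs.1, hgb ▸ perp_conj hG g hs.2⟩
  by_contra! hno
  have h1 := hmap w hw
  have h2 := hmap v hv
  have h12 : g * v * g⁻¹ ∈ perp D (g * w * g⁻¹) := perp_conj hG g hwv
  by_cases hne : g * w * g⁻¹ = x
  · exact hno _ h2 (hne ▸ h12)
  have hn : ¬ Commute (g * w * g⁻¹) x := fun e => hno _ h1 ⟨h1.1.1, hne, e.symm⟩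
  set k := g * w * g⁻¹ * x
  have hk : ∀ s ∈ perp D y ∩ perp D z, k * s * k⁻¹ ∈ perp D y ∩ perp D z := fun s hs =>
    ⟨conj_perp hG (mul_mem (Subgroup.subset_closure h1.1) (Subgroup.subset_closure hx.1)) hs.1,
      conj_perp hG (mul_mem (Subgroup.subset_closure h1.2) (Subgroup.subset_closure hx.2)) hs.2⟩
  have h := perp_conj hG k h12
  rw [show k * (g * w * g⁻¹) * k⁻¹ = x from conj_noncomm hG.1 h1.1.1 hx.1.1 hn] at h
  exact hno _ (hk _ h2) h

/-- The class in the perp of a member is primitive when its cores are trivial. -/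
theorem img_primitive_cores (hG : IsThreeTranspositionGroup D) (hprim : IsPrimitiveUnderConj D)
    (hZ : Subgroup.center G = ⊥) {w : G} (hw : w ∈ D) (hne : (perp D w).Nonempty)
    (hZX : Subgroup.center (↥(H D w) ⧸ Subgroup.center ↥(H D w)) = ⊥)
    (hc2 : pCore 2 (↥(H D w) ⧸ Subgroup.center ↥(H D w)) = ⊥)
    (hc3 : pCore 3 (↥(H D w) ⧸ Subgroup.center ↥(H D w)) = ⊥)
    {a q r : ↥(H D w) ⧸ Subgroup.center ↥(H D w)} (ha : a ∈ img D w) (hq : q ∈ perp (img D w) a)
    (hr : r ∈ perp (img D w) a) (hqr : ¬ Commute q r) :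
    IsPrimitiveUnderConj (img D w) := by
  obtain ⟨y₀, hy₀⟩ := hne
  have hw' : ∃ a ∈ D, ∃ b ∈ D, a ≠ b ∧ Commute a b := ⟨w, hw, y₀, hy₀.1, hy₀.2.1.symm, hy₀.2.2⟩
  have hC := class_of_primitive hG hprim
  have h2 : pCore 2 G = ⊥ := le_bot_iff.1 (hZ ▸ (pCores_central_of_primitive hG hprim hw').1)
  have hSet := setup hG hprim hZ hw'
  have hX := img_class hC h2 hw ⟨y₀, hy₀⟩ fun x hx y hy => perp_orbit hG hprim hZ hw hx hy
  obtain ⟨⟨a', ha'⟩, ham, rfl⟩ := ha
  obtain ⟨⟨q', hq'⟩, hqm, rfl⟩ := hq.1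
  obtain ⟨⟨r', hr'⟩, hrm, rfl⟩ := hr.1
  have hqr' : ¬ Commute q' r' := fun e => hqr ((bar_commute hC.1 hqm hrm).2 e)
  have ham1 : a' ∈ perp D q' ∩ perp D r' :=
    ⟨perp_symm ham.1 ((bar_perp hC h2 hw ham hqm).1 hq), perp_symm ham.1 ((bar_perp hC h2 hw ham hrm).1 hr)⟩
  refine ((simple_iff_primitive hX hZX
    ⟨_, ⟨_, ham, rfl⟩, _, hq.1, hq.2.1.symm, hq.2.2⟩).2).2
    ⟨hc2, hc3, ?_⟩
  haveI : Nonempty ↥(img D w) := ⟨⟨_, ⟨⟨a', ha'⟩, ham, rfl⟩⟩⟩
  refine ⟨fun u v => ?_⟩
  obtain ⟨⟨y, hyH⟩, hy, hu⟩ := u.2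
  obtain ⟨⟨z, hzH⟩, hz, hv⟩ := v.2
  by_cases huv : u = v
  · rw [huv]
  by_cases hyz : Commute y z
  · exact SimpleGraph.Adj.reachable ⟨huv, Or.inl (by
      show Commute (u : ↥(H D w) ⧸ Subgroup.center ↥(H D w)) v
      rw [← hu, ← hv]; exact (bar_commute hC.1 hy hz).2 hyz)⟩
  obtain ⟨s, hs', hsw⟩ := common_partner hG hSet hqm.1 hrm.1 hqr' ⟨perp_symm hw hqm, perp_symm hw hrm⟩
    ham1 ham hy.1 hz.1 hyz ⟨perp_symm hw hy, perp_symm hw hz⟩
  have hs'' : s ∈ perp D w := hsw
  set m : ↥(img D w) := ⟨bar D w s hs'', ⟨_, hs'', rfl⟩⟩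
  have hum : (commutingGraph (img D w)).Adj u m := by
    refine ⟨fun e => hyz ?_, Or.inl ?_⟩
    · have e1 : bar D w y hy = bar D w s hs'' := hu.trans (congrArg Subtype.val e)
      have e2 : y = s := bar_inj hC h2 hw hy hs'' e1
      rw [e2]
      exact hs'.2.2.2.symm
    · show Commute (u : ↥(H D w) ⧸ Subgroup.center ↥(H D w)) m
      rw [← hu]; exact (bar_commute hC.1 hy hs'').2 hs'.1.2.2
  have hmv : (commutingGraph (img D w)).Adj m v := by
    refine ⟨fun e => hyz ?_, Or.inl ?_⟩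
    · have e1 : bar D w s hs'' = bar D w z hz := (congrArg Subtype.val e).trans hv.symm
      have e2 : s = z := bar_inj hC h2 hw hs'' hz e1
      rw [← e2]
      exact hs'.1.2.2
    · show Commute (m : ↥(H D w) ⧸ Subgroup.center ↥(H D w)) v
      rw [← hv]; exact (bar_commute hC.1 hs'' hz).2 hs'.2.2.2.symm
  exact hum.reachable.trans hmv.reachable

/-- The class in the perp of a member is primitive. -/
theorem img_primitive (hG : IsThreeTranspositionGroup D) (hprim : IsPrimitiveUnderConj D)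
    (hZ : Subgroup.center G = ⊥) {w : G} (hw : w ∈ D) (hne : (perp D w).Nonempty)
    (hZX : Subgroup.center (↥(H D w) ⧸ Subgroup.center ↥(H D w)) = ⊥)
    {a : ↥(H D w) ⧸ Subgroup.center ↥(H D w)} (ha : a ∈ img D w)
    (hs : IsSimpleGroup (↥(H (img D w) a) ⧸ Subgroup.center ↥(H (img D w) a))) :
    IsPrimitiveUnderConj (img D w) := by
  obtain ⟨y₀, hy₀⟩ := hne
  have hw' : ∃ a ∈ D, ∃ b ∈ D, a ≠ b ∧ Commute a b := ⟨w, hw, y₀, hy₀.1, hy₀.2.1.symm, hy₀.2.2⟩
  have hC := class_of_primitive hG hprim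
  have h2 : pCore 2 G = ⊥ := le_bot_iff.1 (hZ ▸ (pCores_central_of_primitive hG hprim hw').1)
  have hX := img_class hC h2 hw ⟨y₀, hy₀⟩ fun x hx y hy => perp_orbit hG hprim hZ hw hx hy
  obtain ⟨⟨q, hq, r, hr, hqr⟩, -⟩ := simple_quot hX.1 hs
  exact img_primitive_cores hG hprim hZ hw ⟨y₀, hy₀⟩ hZX (core_bot hX hZX ha hs (Or.inl rfl))
    (core_bot hX hZX ha hs (Or.inr rfl)) ha hq hr hqr

end Cfsg.Agent.Fischer3Srg
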