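import Cfsg.Agent.Lib.Fischer3Srg.Fac

/-!
# Products of two or three members are no 3-transpositions
-/

set_option autoImplicit false
set_option linter.unusedSectionVars false

namespace Cfsg.Agent.Fischer3Srg

open Cfsg ClassK Fischer3 Fischer3Rel

universe u

variable {G : Type u} [Group G] [Finite G] {D : Set G}

theorem braid (hS : IsThreeTranspositionSet D) {x y : G} (hx : x ∈ D) (hy : y ∈ D) (h : ¬ Commute x y) :
    x * y * x = y * x * y := by
  have e := conj_noncomm hS hx hy h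
  rw [mul_inv_rev, tt_inv hS hx, tt_inv hS hy] at e
  calc x * y * x = x * y * x * (y * x) * (x * y) := by
        rw [show x * y * x * (y * x) * (x * y) = x * y * x * (y * (x * x) * y) by group,
          tt_mul_self hS hx, mul_one, tt_mul_self hS hy, mul_one]
    _ = y * x * y := by rw [e, mul_assoc]

/-- On a path of four members the products of the two alternating pairs have a product of large order. -/
theorem path_order (hS : IsThreeTranspositionSet D) {a A b B : G} (ha : a ∈ D) (hA : A ∈ D) (hb : b ∈ D)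
    (hB : B ∈ D) (hne : a ≠ b) (cab : Commute a b) (cAB : Commute A B) (caB : Commute a B)
    (naA : ¬ Commute a A) (nAb : ¬ Commute A b) (nbB : ¬ Commute b B) :
    (a * b * (A * B)) ^ 2 ≠ 1 ∧ (a * b * (A * B)) ^ 3 ≠ 1 := by
  set c := a * A * b * B with hc
  set z := a * b * (A * B) with hz
  clear_value c z
  have sb := tt_mul_self hS hb
  have sB := tt_mul_self hS hB
  have hconj : c = (B * b) * z * (B * b)⁻¹ := by
    rw [hc, hz, mul_inv_rev, tt_inv hS hb, tt_inv hS hB]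
    calc a * A * b * B = a * (A * (b * B)) := by simp only [mul_assoc]
      _ = a * (B * (B * (A * (b * B)))) := by rw [← mul_assoc B B, sB, one_mul]
      _ = B * (a * (A * (B * (b * B)))) := by
          rw [← mul_assoc a B, caB.eq, mul_assoc, ← mul_assoc B A, ← cAB.eq, mul_assoc]
      _ = B * (b * (b * (a * (A * (B * (b * B)))))) := by rw [← mul_assoc b b, sb, one_mul]
      _ = B * b * (a * b * (A * B)) * (b * B) := by
          rw [← mul_assoc b a, ← cab.eq]
          simp only [mul_assoc]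
  have s1 : c * a * c⁻¹ = A := by
    rw [mul_inv_eq_iff_eq_mul, hc]
    calc a * A * b * B * a = a * A * (b * (B * a)) := by simp only [mul_assoc]
      _ = a * A * a * (b * B) := by
          rw [← caB.eq, ← mul_assoc b a, ← cab.eq]; simp only [mul_assoc]
      _ = A * (a * A * b * B) := by rw [braid hS ha hA naA]; simp only [mul_assoc]
  have s2 : c * A * c⁻¹ = b := by
    rw [mul_inv_eq_iff_eq_mul, hc]
    calc a * A * b * B * A = a * (A * b * A) * B := by
          simp only [mul_assoc]; rw [cAB.eq]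
      _ = b * (a * A * b * B) := by
          rw [braid hS hA hb nAb, ← mul_assoc, ← mul_assoc, cab.eq]; simp only [mul_assoc]
  have s3 : c * b * c⁻¹ = B := by
    rw [mul_inv_eq_iff_eq_mul, hc]
    calc a * A * b * B * b = a * A * (b * B * b) := by simp only [mul_assoc]
      _ = a * (A * B) * b * B := by rw [braid hS hb hB nbB]; simp only [mul_assoc]
      _ = B * (a * A * b * B) := by
          rw [cAB.eq, ← mul_assoc a B A, caB.eq]; simp only [mul_assoc]
  have hpow : ∀ k, z ^ k = 1 → c ^ k = 1 := fun k h => by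
    rw [hconj, conj_pow, h, mul_one, mul_inv_cancel]
  refine ⟨fun h => ?_, fun h => ?_⟩
  · have e := hpow 2 h
    refine hne ?_
    calc a = c ^ 2 * a * (c ^ 2)⁻¹ := by simp [e]
      _ = c * (c * a * c⁻¹) * c⁻¹ := by rw [pow_two, mul_inv_rev]; simp only [mul_assoc]
      _ = b := by rw [s1, s2]
  · have e := hpow 3 h
    have hBa : B = a := by
      calc B = c * (c * (c * a * c⁻¹) * c⁻¹) * c⁻¹ := by rw [s1, s2, s3]
        _ = c ^ 3 * a * (c ^ 3)⁻¹ := by
            rw [pow_succ, pow_two, mul_inv_rev, mul_inv_rev]; simp only [mul_assoc]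
        _ = a := by simp [e]
    exact naA (hBa ▸ cAB).symm

/-- A path of four members from the counts. -/
theorem exists_path {S : Set G} (hSD : S ⊆ D) {n l m : ℕ} (hne : S.Nonempty)
    (hn : ∀ x ∈ S, (S ∩ perp D x).ncard = n)
    (hl : ∀ x ∈ S, ∀ y ∈ S ∩ perp D x, (S ∩ perp D x ∩ perp D y).ncard = l)
    (hm : ∀ x ∈ S, ∀ y ∈ S, ¬ Commute x y → (S ∩ perp D x ∩ perp D y).ncard = m)
    (hlt : l + m + 1 < n) : ∃ a ∈ S, ∃ A ∈ S, ∃ b ∈ S, ∃ B ∈ S, a ≠ b ∧ A ≠ B ∧ Commute a b ∧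
      Commute A B ∧ Commute a B ∧ ¬ Commute a A ∧ ¬ Commute A b ∧ ¬ Commute b B := by
  obtain ⟨a, ha⟩ := hne
  obtain ⟨B, hBS, hB⟩ := nonempty_of_ncard (hn a ha) (by omega)
  obtain ⟨A, ⟨hAS, hA⟩, hA1, naA⟩ :
      ∃ A ∈ S ∩ perp D B, A ≠ a ∧ ¬ Commute a A := by
    by_contra! h
    have h1 := Set.ncard_le_ncard (s := S ∩ perp D B) (t := insert a (S ∩ perp D a ∩ perp D B))
      fun x hx => by
        by_cases e : x = a
        · exact Or.inl e
        · exact Or.inr ⟨⟨hx.1, hSD hx.1, e, h x hx e⟩, hx.2⟩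
    have h2 := Set.ncard_insert_le a (S ∩ perp D a ∩ perp D B)
    rw [hn B hBS] at h1
    rw [hl a ha B ⟨hBS, hB⟩] at h2
    omega
  obtain ⟨b, ⟨hbS, hb⟩, nAb, nbB⟩ : ∃ b ∈ S ∩ perp D a, ¬ Commute A b ∧ ¬ Commute b B := by
    by_contra! h
    have h1 := Set.ncard_le_ncard (s := S ∩ perp D a)
      (t := S ∩ perp D a ∩ perp D A ∪ insert B (S ∩ perp D a ∩ perp D B)) fun x hx => by
        by_cases hc : Commute A x
        · exact Or.inl ⟨hx, hx.2.1, fun e => naA (e ▸ hx.2.2.2), hc⟩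
        · by_cases e : x = B
          · exact Or.inr (Or.inl e)
          · exact Or.inr (Or.inr ⟨hx, hx.2.1, e, (h x hx hc).symm⟩)
    have h2 := Set.ncard_union_le (S ∩ perp D a ∩ perp D A) (insert B (S ∩ perp D a ∩ perp D B))
    have h3 := Set.ncard_insert_le B (S ∩ perp D a ∩ perp D B)
    rw [hn a ha] at h1
    rw [hm a ha A hAS naA] at h2
    rw [hl a ha B ⟨hBS, hB⟩] at h3
    omega
  exact ⟨a, ha, A, hAS, b, hbS, B, hBS, hb.2.1.symm, hA.2.1, hb.2.2, hA.2.2.symm, hB.2.2, naA, nAb, nbB⟩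

/-- A 3-transposition class contains no product of two or three commuting members. -/
theorem short_mem (hC : IsThreeTranspositionClass D) {k k' l' m' μ : ℕ} (hL : Local D k k' l' m')
    (hkk : 2 * k' + 2 < k) (hll : 2 * l' + 2 < k')
    (hμ : ∀ d ∈ D, ∀ c ∈ D, ¬ Commute d c → (perp D d ∩ perp D c).ncard = μ)
    (hb1 : k' + μ + 1 < k) (hb2 : l' + m' + 1 < k') {D' : Set G} (hC' : IsThreeTranspositionClass D')
    {m : ℕ} (hm : 1 ≤ m) (hm' : m ≤ 3) {x : G} {l : List G} (hx : x ∈ D') (h : Fac D m x l) :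
    x ∈ D := by
  have hS := hC.1
  have hG' := class_group hC'
  have inD : ∀ d, perp D d ⊆ D := fun d _ h => h.1
  have key : ∀ y y' : G, (∃ l', Fac D m y l') → (∃ l', Fac D m y' l') →
      (y * y') ^ 2 ≠ 1 → (y * y') ^ 3 ≠ 1 → False := by
    rintro y y' ⟨l₁, h₁⟩ ⟨l₂, h₂⟩ n2 n3
    obtain ⟨g, hg⟩ := isConj_iff.1 (fac_conj hC hL hkk hll hm hm' h h₁)
    obtain ⟨g', hg'⟩ := isConj_iff.1 (fac_conj hC hL hkk hll hm hm' h h₂)
    exact (hC'.1.2 y (hg ▸ hG'.2.1 g x hx) y' (hg' ▸ hG'.2.1 g' x hx)).elim n2 n3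
  interval_cases m
  · obtain ⟨a, rfl⟩ := List.length_eq_one_iff.1 h.2.1
    rw [← h.2.2.2.2, List.prod_singleton]
    exact h.2.2.1 a (by simp)
  · exfalso
    obtain ⟨d, hd, -⟩ := hC.2.1
    have hsub : ∀ x : G, D ∩ perp D x = perp D x := fun x => Set.inter_eq_right.2 (inD x)
    obtain ⟨a, ha, A, hA, b, hb, B, hB, nab, nAB, cab, cAB, caB, naA, nAb, nbB⟩ :=
      exists_path (D := D) subset_rfl ⟨d, hd⟩ (fun x hx => by rw [hsub]; exact hL.size x hx)
        (fun x hx y hy => by rw [hsub]; exact hL.pair x hx y hy.2)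
        (fun x hx y hy hn => by rw [hsub]; exact hμ x hx y hy hn) hb1
    obtain ⟨n2, n3⟩ := path_order hS ha hA hb hB nab cab cAB caB naA nAb nbB
    exact key _ _ ⟨_, fac_two ha ⟨hb, nab.symm, cab⟩⟩ ⟨_, fac_two hA ⟨hB, nAB.symm, cAB⟩⟩ n2 n3
  · exfalso
    obtain ⟨c, hc, -⟩ := hC.2.1
    obtain ⟨y₀, hy₀⟩ := nonempty_of_ncard (hL.size c hc) (by omega)
    obtain ⟨a, ha, A, hA, b, hb, B, hB, nab, nAB, cab, cAB, caB, naA, nAb, nbB⟩ :=
      exists_path (D := D) (inD c) ⟨y₀, hy₀⟩ (fun x hx => hL.pair c hc x hx)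
        (fun x hx y hy => hL.trip c hc x hx y hy) (fun x hx y hy hn => hL.mix c hc x hx y hy hn) hb2
    obtain ⟨n2, n3⟩ := path_order hS ha.1 hA.1 hb.1 hB.1 nab cab cAB caB naA nAb nbB
    have e : c * a * b * (c * A * B) = a * b * (A * B) := by
      rw [ha.2.2.eq, mul_assoc a c b, hb.2.2.eq]
      simp only [mul_assoc]
      rw [← mul_assoc c c, tt_mul_self hS hc, one_mul]
    exact key _ _ ⟨_, fac_three hc ha ⟨hb, hb.1, nab.symm, cab⟩⟩
      ⟨_, fac_three hc hA ⟨hB, hB.1, nAB.symm, cAB⟩⟩ (e ▸ n2) (e ▸ n3)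

/-- Two classes with a common member are equal. -/
theorem class_eq_of_mem (hC : IsThreeTranspositionClass D) {D' : Set G}
    (hC' : IsThreeTranspositionClass D') {x : G} (hx : x ∈ D) (hx' : x ∈ D') : D' = D := by
  have h : ∀ {E : Set G}, IsThreeTranspositionClass E → x ∈ E → E = conjugatesOf x := by
    intro E hE hxE
    obtain ⟨d, -, rfl⟩ := hE.2.1
    exact IsConj.conjugatesOf_eq hxE
  rw [h hC' hx', h hC hx]

end Cfsg.Agent.Fischer3Srg
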