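import Cfsg.Agent.Lib.Fischer3Srg.Below

/-!
# Centralisers of members, orders, and the graph one level up
-/

set_option autoImplicit false
set_option linter.unusedSectionVars false
set_option linter.style.haveILetI false

namespace Cfsg.Agent.Fischer3Srg

open Cfsg ClassK Fischer3 Fischer3Rel

universe u

variable {G : Type u} [Group G] [Finite G] {D : Set G} {k k' l' m' : ℕ}

theorem commute_of_mem_H {d x : G} (hx : x ∈ H D d) : Commute x d :=
  Subgroup.mem_centralizer_singleton_iff.1 ((Subgroup.closure_le _).2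
    (fun y hy => Subgroup.mem_centralizer_singleton_iff.2 hy.2.2.eq.symm) hx :
      x ∈ Subgroup.centralizer {d})

theorem family_H (hG : IsThreeTranspositionGroup D) (hB : Below D k k' l' m') :
    Family D (H D) :=
  ⟨fun g d _ x hx => H_conj hG g d ▸ Subgroup.mem_map_of_mem (MulAut.conj g).toMonoidHom hx,
    fun _ _ _ hx => commute_of_mem_H hx, hB.key,
    fun _ _ _ hp _ hq _ => mul_mem (Subgroup.subset_closure hp) (Subgroup.subset_closure hq)⟩

/-- The centraliser of a member is the group of its perp. -/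
theorem centralizer_eq (hG : IsThreeTranspositionGroup D) (hB : Below D k k' l' m') (hK : Linked D)
    {d : G} (hd : d ∈ D) : Subgroup.centralizer {d} = H D d := by
  refine le_antisymm (fun g hg => ?_)
    fun g hg => Subgroup.mem_centralizer_singleton_iff.2 (commute_of_mem_H hg).eq
  obtain ⟨M, hM, hMd, -⟩ := exists_subgroup hG (family_H hG hB) hK hd
  have htop : M = ⊤ := by
    rw [eq_top_iff, ← hG.2.2, Subgroup.closure_le]
    exact fun e he => hM e he (hB.self e he)
  exact hMd g (htop ▸ Subgroup.mem_top g) (Subgroup.mem_centralizer_singleton_iff.1 hg)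

theorem center_H (hB : Below D k k' l' m') {d : G} (hd : d ∈ D) :
    Subgroup.center ↥(H D d) = (Subgroup.zpowers d).subgroupOf (H D d) := by
  ext x
  constructor
  · intro hx
    rcases hB.centre d hd x x.2 fun y hy => commute_of_mem_center hx hy with e | e <;>
      rw [Subgroup.mem_subgroupOf, e]
    exacts [one_mem _, Subgroup.mem_zpowers d]
  · intro hx
    obtain ⟨i, hi⟩ := Subgroup.mem_zpowers_iff.1 (Subgroup.mem_subgroupOf.1 hx)
    exact mem_center_closure x fun y hy => hi ▸ hy.2.2.zpow_left i

theorem card_H (hS : IsThreeTranspositionSet D) (hB : Below D k k' l' m') {d : G} (hd : d ∈ D) :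
    Nat.card ↥(H D d) = 2 * Nat.card (↥(H D d) ⧸ Subgroup.center ↥(H D d)) := by
  rw [Subgroup.card_eq_card_quotient_mul_card_subgroup (Subgroup.center ↥(H D d)), mul_comm]
  congr 1
  rw [center_H hB hd, Nat.card_congr (Subgroup.subgroupOfEquivOfLe
    (Subgroup.zpowers_le.2 (hB.self d hd))).toEquiv, Nat.card_zpowers, hS.1 d hd]

theorem card_G (hC : IsThreeTranspositionClass D) {d : G} (hd : d ∈ D) :
    Nat.card G = D.ncard * Nat.card ↥(Subgroup.centralizer ({d} : Set G)) := by
  have horb : MulAction.orbit (ConjAct G) d = D := by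
    ext x
    simp only [MulAction.mem_orbit_iff, ConjAct.smul_def]
    constructor
    · rintro ⟨g, rfl⟩
      exact (class_group hC).2.1 _ d hd
    · intro hx
      obtain ⟨g, hg⟩ := class_exists_conj hC hd hx
      exact ⟨ConjAct.toConjAct g, by simpa using hg⟩
  rw [← Nat.card_coe_set_eq D, ← horb,
    ← Nat.card_congr (MulAction.orbitEquivQuotientStabilizer (ConjAct G) d).symm]
  rw [Subgroup.card_eq_card_quotient_mul_card_subgroup (MulAction.stabilizer (ConjAct G) d)
    (α := ConjAct G) |> fun e => (Nat.card_congr (ConjAct.ofConjAct (G := G)).toEquiv).symm.trans e]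
  congr 1
  refine Nat.card_congr (Equiv.subtypeEquiv (ConjAct.ofConjAct (G := G)).toEquiv fun g => ?_)
  rw [MulAction.mem_stabilizer_iff, Subgroup.mem_centralizer_singleton_iff, ConjAct.smul_def]
  exact mul_inv_eq_iff_eq_mul

/-- The graph of the group. -/
theorem srg_of (hC : IsThreeTranspositionClass D) (hB : Below D k k' l' m') (hK : Linked D)
    {v μ : ℕ} (hm' : 0 < m') (hμ0 : 0 < μ)
    (hμ : ∀ d ∈ D, ∀ c ∈ D, ¬ Commute d c → (perp D d ∩ perp D c).ncard = μ)
    (hv : ((v : ℤ) - 1 - k) * μ = k * ((k : ℤ) - k' - 1)) : Srg D v k k' μ := by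
  refine ⟨?_, hB.loc.size, hB.loc.pair, hμ, fun b hb x hx y hy hn => ?_, ?_,
    fun d hd => centralizer_eq (class_group hC) hB hK hd⟩
  · obtain ⟨d, hd, -⟩ := hC.2.1
    have h1 := count_A hB.loc hμ hd
    have h2 := card_D hB.loc hμ hd
    rw [← hv] at h1
    have h3 := mul_right_cancel₀ (show (μ : ℤ) ≠ 0 by exact_mod_cast hμ0.ne') h1
    omega
  · exact nonempty_of_ncard (hB.loc.mix b hb x hx y hy hn) hm'
  · exact fun a ha c hc t ht hac hat hsub =>
      hB.u3 a ha c hc hac (nonempty_of_ncard (hμ a ha c hc hac) hμ0) t ht hat hsub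

end Cfsg.Agent.Fischer3Srg
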