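import Cfsg.Prelude.Def_FischerSpaces
import Cfsg.Agent.Lib.BigExtra.ReflIndex
import Cfsg.Agent.Lib.TransvMax.SimOrth
import Cfsg.Agent.Lib.LinearGroups.OrthOrder
import Cfsg.Agent.S0286
import Cfsg.Agent.S0288

/-!
# Orders of the reflection groups in six and seven dimensions over three elements
-/

set_option autoImplicit false
set_option linter.unusedSectionVars false

namespace Cfsg.Agent.Fischer3Srg

open Cfsg QuadraticMap FormsLib

local notation "F₃" => ZMod 3

/-- Six coordinates as two hyperbolic planes and an anisotropic plane. -/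
def six : (Fin 6 → F₃) ≃ₗ[F₃] (Fin 2 ⊕ Fin 2 → F₃) × (Fin 2 → F₃) where
  toFun v := (Sum.elim ![2 * (2 * v 0 + 2 * v 1 + v 2), 2 * (2 * v 0 + v 1 + v 3)]
    ![2 * (v 0 + v 1 + v 2), 2 * (v 0 + 2 * v 1 + v 3)], ![v 4, v 5])
  invFun x := ![x.1 (.inl 0) + x.1 (.inl 1) + 2 * x.1 (.inr 0) + 2 * x.1 (.inr 1),
    x.1 (.inl 0) + 2 * x.1 (.inl 1) + 2 * x.1 (.inr 0) + x.1 (.inr 1),
    x.1 (.inl 0) + x.1 (.inr 0), x.1 (.inl 1) + x.1 (.inr 1), x.2 0, x.2 1]
  map_add' u v := Prod.ext (funext fun i => by rcases i with i | i <;> fin_cases i <;> simp <;> ring)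
    (funext fun i => by fin_cases i <;> simp)
  map_smul' c v := Prod.ext (funext fun i => by rcases i with i | i <;> fin_cases i <;> simp <;> ring)
    (funext fun i => by fin_cases i <;> simp)
  left_inv v := funext fun i => by
    fin_cases i <;> simp <;> grind [(by decide : (3 : F₃) = 0)]
  right_inv x := Prod.ext
    (funext fun i => by rcases i with i | i <;> fin_cases i <;> simp <;> grind [(by decide : (3 : F₃) = 0)])
    (funext fun i => by fin_cases i <;> simp)

theorem six_form (v : Fin 6 → F₃) :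
    OrthOrder.qSum 2 (S0288.binForm (0 : F₃) 1) (six v) = ∑ i, 1 * (v i * v i) := by
  simp [six, OrthOrder.qSum_apply, Cfsg.quadFormPlus, S0288.binForm_apply, Fin.sum_univ_six,
    Fin.sum_univ_two]
  grind [(by decide : (3 : F₃) = 0)]

/-- Seven coordinates as three hyperbolic planes and a line. -/
def seven : (Fin 7 → F₃) ≃ₗ[F₃] (Fin 3 ⊕ Fin 3 → F₃) × (Unit → F₃) where
  toFun v := (Sum.elim
      ![2 * (2 * (2 * v 0 + 2 * v 1 + v 2)), 2 * (2 * (2 * v 0 + v 1 + v 3)),
        2 * (2 * (2 * v 4 + 2 * v 5 + v 6))]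
      ![2 * (v 0 + v 1 + v 2), 2 * (v 0 + 2 * v 1 + v 3), 2 * (v 4 + v 5 + v 6)],
    fun _ => 2 * (v 4 + 2 * v 5))
  invFun x := ![2 * x.1 (.inl 0) + 2 * x.1 (.inl 1) + 2 * x.1 (.inr 0) + 2 * x.1 (.inr 1),
    2 * x.1 (.inl 0) + x.1 (.inl 1) + 2 * x.1 (.inr 0) + x.1 (.inr 1),
    2 * x.1 (.inl 0) + x.1 (.inr 0), 2 * x.1 (.inl 1) + x.1 (.inr 1),
    2 * x.1 (.inl 2) + 2 * x.1 (.inr 2) + x.2 (),
    2 * x.1 (.inl 2) + 2 * x.1 (.inr 2) + 2 * x.2 (),
    2 * x.1 (.inl 2) + x.1 (.inr 2)]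
  map_add' u v := Prod.ext (funext fun i => by rcases i with i | i <;> fin_cases i <;> simp <;> ring)
    (funext fun _ => by simp; ring)
  map_smul' c v := Prod.ext (funext fun i => by rcases i with i | i <;> fin_cases i <;> simp <;> ring)
    (funext fun _ => by simp; ring)
  left_inv v := funext fun i => by
    fin_cases i <;> simp <;> grind [(by decide : (3 : F₃) = 0)]
  right_inv x := Prod.ext
    (funext fun i => by rcases i with i | i <;> fin_cases i <;> simp <;> grind [(by decide : (3 : F₃) = 0)])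
    (funext fun _ => by simp; grind [(by decide : (3 : F₃) = 0)])

theorem seven_form (v : Fin 7 → F₃) :
    OrthOrder.qSum 3 (S0286.sqForm F₃) (seven v) = 2 * ∑ i, 1 * (v i * v i) := by
  simp [seven, OrthOrder.qSum_apply, Cfsg.quadFormPlus, S0286.sqForm_apply, Fin.sum_univ_seven,
    Fin.sum_univ_three]
  grind [(by decide : (3 : F₃) = 0)]

theorem card_refl {n : ℕ} (hn : 5 ≤ n) (Q : QuadraticForm F₃ (Fin n → F₃))
    (hQ : (polarBilin Q).Nondegenerate) {c : F₃} (hc : c ≠ 0) :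
    2 * Nat.card ↥(reflectionSubgroup (⇑Q) c) = Nat.card ↥(isometryGroup F₃ ⇑Q) := by
  rw [← Subgroup.card_mul_index (reflectionSubgroup (⇑Q) c), mul_comm]
  congr 1
  rw [← BigExtra.reflections_index_two (F := F₃) (by decide) hn Q hQ c hc]
  refine congrArg (fun s => (Subgroup.closure s).index) (Set.ext fun g => ?_)
  have hsq : ∀ t : F₃, t ≠ 0 → t ^ 2 = 1 := by decide
  exact ⟨fun ⟨v, t, ht, hv, h⟩ => ⟨v, by rw [hv, hsq t ht, mul_one], h⟩,
    fun ⟨v, hv, h⟩ => ⟨v, 1, one_ne_zero, by rw [hv]; ring, h⟩⟩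

theorem card_refl_six (Q : QuadraticForm F₃ (Fin 6 → F₃)) (hQ : (polarBilin Q).Nondegenerate)
    (hd : polarGramDet (⇑Q) = 1) {c : F₃} (hc : c ≠ 0) :
    Nat.card ↥(reflectionSubgroup (⇑Q) c) = 13063680 := by
  have hd' : (Spinor.gramMat Q).det = 1 := hd
  obtain ⟨g, hg⟩ := (Spinor.isometric_iff (by decide) (weightedSumSquares F₃ fun _ : Fin 6 => (1 : F₃)) Q
    (SimEl.weighted_nondeg (by decide) _ fun _ => one_ne_zero) hQ).2 (by
      rw [SimEl.gram_det_weighted, hd', mul_one, Finset.prod_const_one, mul_one]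
      exact ⟨2 ^ 3, by ring⟩)
  have hab : ∀ z₁ z₂ : F₃, z₁ ^ 2 + 0 * z₁ * z₂ + 1 * z₂ ^ 2 = 0 → z₁ = 0 ∧ z₂ = 0 := by decide
  have h := card_refl (by norm_num) Q hQ hc
  rw [OrthOrder.card_isometryGroup (⇑Q) (OrthOrder.qSum 2 (S0288.binForm (0 : F₃) 1))
    (g.symm.trans six) (fun v => by
      rw [LinearEquiv.trans_apply, six_form]
      conv_rhs => rw [← g.apply_symm_apply v, hg, weightedSumSquares_apply]
      simp),
    S0288.card_minus_group 0 1 hab, ZMod.card] at h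
  simp [Finset.prod_range_succ] at h
  omega

theorem card_refl_seven (Q : QuadraticForm F₃ (Fin 7 → F₃)) (hQ : (polarBilin Q).Nondegenerate)
    {c : F₃} (hc : c ≠ 0) : Nat.card ↥(reflectionSubgroup (⇑Q) c) = 9170703360 := by
  set P := weightedSumSquares F₃ fun _ : Fin 7 => (1 : F₃)
  obtain ⟨g, s, hs, hg⟩ := SimEl.exists_similar (F := F₃) (by decide) ⟨3, rfl⟩ hQ
    (SimEl.weighted_nondeg (by decide) (fun _ => (1 : F₃)) fun _ => one_ne_zero)
  set M := (s * 2) • OrthOrder.qSum 3 (S0286.sqForm F₃)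
  have hs2 : s * 2 ≠ 0 := mul_ne_zero hs (by decide)
  have hM : ∀ x, M x = s * 2 * OrthOrder.qSum 3 (S0286.sqForm F₃) x := fun x => rfl
  have h := card_refl (by norm_num) Q hQ hc
  have hgrp : oGroup M = oGroup (OrthOrder.qSum 3 (S0286.sqForm F₃)) := by
    ext f
    simp only [mem_oGroup, hM, mul_right_inj' hs2]
  rw [OrthOrder.card_isometryGroup (⇑Q) M (g.symm.trans seven) (fun v => by
      rw [LinearEquiv.trans_apply, hM, seven_form]
      conv_rhs => rw [← g.apply_symm_apply v, hg, weightedSumSquares_apply]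
      simp only [smul_eq_mul]
      linear_combination (s * ∑ i, 1 * (g.symm v i * g.symm v i)) * (by decide : (3 : F₃) = 0)),
    hgrp, S0286.card_odd_group (by decide), ZMod.card] at h
  simp [Finset.prod_range_succ] at h
  omega

end Cfsg.Agent.Fischer3Srg
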