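import Cfsg.Agent.Lib.Fischer3Srg.Prim

/-!
# Types of 3-transposition groups along isomorphisms
-/

set_option autoImplicit false
set_option linter.unusedSectionVars false
set_option linter.style.haveILetI false

namespace Cfsg.Agent.Fischer3Srg

open Cfsg ClassK Fischer3 Fischer3Rel

universe u v

variable {X : Type u} {Y : Type v} [Group X] [Group Y]

theorem map_closure_set (e : X ≃* Y) (S : Set X) :
    (Subgroup.closure S).map e.toMonoidHom = Subgroup.closure (e '' S) :=
  MonoidHom.map_closure _ _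

/-- Central quotients of corresponding generated subgroups correspond. -/
theorem nonempty_quot (e : X ≃* Y) (S : Set X) (T : Set Y) (h : e '' S = T) :
    Nonempty ((↥(Subgroup.closure S) ⧸ Subgroup.center ↥(Subgroup.closure S)) ≃*
      (↥(Subgroup.closure T) ⧸ Subgroup.center ↥(Subgroup.closure T))) := by
  let f : ↥(Subgroup.closure S) ≃* ↥(Subgroup.closure T) :=
    ((Subgroup.closure S).equivMapOfInjective e.toMonoidHom e.injective).trans
      (MulEquiv.subgroupCongr (by rw [map_closure_set, h]))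
  refine ⟨QuotientGroup.congr _ _ f ?_⟩
  ext y
  constructor
  · rintro ⟨x, hx, rfl⟩
    exact MulEquivClass.apply_mem_center f hx
  · intro hy
    exact ⟨f.symm y, MulEquivClass.apply_mem_center f.symm hy, f.apply_symm_apply y⟩

theorem image_perp (e : X ≃* Y) (D : Set X) (d : X) : e '' perp D d = perp (e '' D) (e d) := by
  ext y
  constructor
  · rintro ⟨x, ⟨hx, hne, hc⟩, rfl⟩
    exact ⟨⟨x, hx, rfl⟩, e.injective.ne hne, hc.map e.toMonoidHom⟩
  · rintro ⟨⟨x, hx, rfl⟩, hne, hc⟩
    refine ⟨x, ⟨hx, fun h => hne (by rw [h]), ?_⟩, rfl⟩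
    have := hc.map e.symm.toMonoidHom
    simpa using this

theorem image_perp_two (e : X ≃* Y) (D : Set X) (d c : X) :
    e '' (perp D d ∩ perp D c) = perp (e '' D) (e d) ∩ perp (e '' D) (e c) := by
  rw [Set.image_inter e.injective, image_perp, image_perp]

theorem type22_map (e : X ≃* Y) (D : Set X) (h : IsOfTypeM22 X D) : IsOfTypeM22 Y (e '' D) := by
  obtain ⟨hZ, d, hd, c, hc, hdc, ⟨F, hF1, hF2, hF, ⟨eP⟩⟩, c₃, hc₃, Q, hQ, hdet, ⟨eL⟩⟩ := h
  refine ⟨?_, e d, ⟨d, hd, rfl⟩, e c, ⟨c, hc, rfl⟩, fun h => hdc ?_, ⟨F, hF1, hF2, hF, ?_⟩,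
    c₃, hc₃, Q, hQ, hdet, ?_⟩
  · refine eq_bot_iff.2 fun y hy => ?_
    have : e.symm y ∈ Subgroup.center X := MulEquivClass.apply_mem_center e.symm hy
    rw [hZ, Subgroup.mem_bot] at this
    exact Subgroup.mem_bot.2 (by simpa using congrArg e this)
  · have := h.map e.symm.toMonoidHom
    simpa using this
  · obtain ⟨f⟩ := nonempty_quot e _ _ (image_perp e D d)
    exact ⟨f.symm.trans eP⟩
  · obtain ⟨f⟩ := nonempty_quot e _ _ (image_perp_two e D d c)
    exact ⟨f.symm.trans eL⟩

variable {G : Type u} [Group G] [Finite G] {D : Set G}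

/-- The central quotients of the perps of two members are isomorphic. -/
theorem exists_img_equiv (hG : IsThreeTranspositionGroup D) (g : G) (d : G) :
    ∃ e : (↥(H D d) ⧸ Subgroup.center ↥(H D d)) ≃*
        (↥(H D (g * d * g⁻¹)) ⧸ Subgroup.center ↥(H D (g * d * g⁻¹))),
      e '' img D d = img D (g * d * g⁻¹) := by
  let f : ↥(H D d) ≃* ↥(H D (g * d * g⁻¹)) :=
    ((H D d).equivMapOfInjective (MulAut.conj g).toMonoidHom (MulAut.conj g).injective).trans
      (MulEquiv.subgroupCongr (H_conj hG g d))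
  have hf : (Subgroup.center ↥(H D d)).map f.toMonoidHom = Subgroup.center ↥(H D (g * d * g⁻¹)) := by
    ext y
    constructor
    · rintro ⟨x, hx, rfl⟩
      exact MulEquivClass.apply_mem_center f hx
    · intro hy
      exact ⟨f.symm y, MulEquivClass.apply_mem_center f.symm hy, f.apply_symm_apply y⟩
  refine ⟨QuotientGroup.congr _ _ f hf, ?_⟩
  ext z
  constructor
  · rintro ⟨_, ⟨y, hy, rfl⟩, rfl⟩
    exact ⟨f y, perp_conj hG g hy, rfl⟩
  · rintro ⟨y, hy, rfl⟩
    refine ⟨QuotientGroup.mk (f.symm y), ⟨f.symm y, ?_, rfl⟩, ?_⟩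
    · have h : g * (f.symm y : G) * g⁻¹ = y := congrArg Subtype.val (f.apply_symm_apply y)
      have h' := perp_conj hG g⁻¹ (show (y : G) ∈ perp D (g * d * g⁻¹) from hy)
      rw [← h] at h'
      simp only [inv_inv] at h'
      rw [show g⁻¹ * (g * d * g⁻¹) * g = d by group,
        show g⁻¹ * (g * (f.symm y : G) * g⁻¹) * g = (f.symm y : G) by group] at h'
      exact h'
    · show QuotientGroup.mk (f (f.symm y)) = _
      rw [f.apply_symm_apply]

end Cfsg.Agent.Fischer3Srg
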